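import Mathlib
import Cfsg.Agent.H496.CyclicCount
import Cfsg.Agent.OddOrderLocal.CyclicSub

/-!
# Isolated cyclic Hall subgroups (helper702)

`Iso T` : `T` is a cyclic Hall subgroup of odd order `> 1` which contains the centralizers of its nontrivial elements.
-/

set_option autoImplicit false

namespace Cfsg.Agent.H702.TF

open Subgroup
open scoped Pointwise

/-- isolated cyclic Hall subgroup -/
structure Iso {X : Type*} [Group X] (T : Subgroup X) : Prop where
  cyc : IsCyclic T
  odd : Odd (Nat.card T)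
  one_lt : 1 < Nat.card T
  cop : (Nat.card T).Coprime T.index
  cent : ∀ z ∈ T, z ≠ 1 → ∀ g : X, g * z = z * g → g ∈ T

variable {X : Type*} [Group X] [Finite X]

theorem Iso.of_order {t m : ℕ} (hcard : Nat.card X = t * m) (hcop : t.Coprime m) (hodd : Odd t) (ht : 1 < t)
    (hno : ∀ r s : ℕ, r.Prime → s.Prime → r ∣ t → ¬ s ∣ t → ∀ g : X, orderOf g ≠ r * s) {x : X}
    (hx : orderOf x = t) : Iso (zpowers x) where
  cyc := inferInstance
  odd := by rwa [Nat.card_zpowers, hx]
  one_lt := by rwa [Nat.card_zpowers, hx]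
  cop := by
    have h1 := (zpowers x).card_mul_index
    rw [Nat.card_zpowers, hx, hcard] at h1
    rw [Nat.card_zpowers, hx, Nat.eq_of_mul_eq_mul_left (by omega) h1]
    exact hcop
  cent := by
    intro z hz hz1 g hg
    set C := centralizer ({z} : Set X) with hC
    have hTC : zpowers x ≤ C := by
      intro y hy
      rw [hC, mem_centralizer_singleton_iff]
      obtain ⟨i, rfl⟩ := mem_zpowers_iff.1 hy
      obtain ⟨j, rfl⟩ := mem_zpowers_iff.1 hz
      rw [← zpow_add, ← zpow_add, add_comm]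
    have hgC : g ∈ C := by
      rw [hC, mem_centralizer_singleton_iff]
      exact hg
    -- the centralizer has order dividing `t`
    have hzt : orderOf z ∣ t := by
      rw [← hx]
      exact orderOf_dvd_of_mem_zpowers hz
    have hz1' : orderOf z ≠ 1 := by rwa [Ne, orderOf_eq_one_iff]
    have hrp := Nat.minFac_prime hz1'
    have hrz := Nat.minFac_dvd (orderOf z)
    set r := (orderOf z).minFac with hr
    have hCm : (Nat.card C).Coprime m := by
      apply Nat.coprime_of_dvd
      intro s hs h1 h2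
      have hst : ¬ s ∣ t := fun h3 => hs.one_lt.ne' (Nat.dvd_one.1 (hcop ▸ Nat.dvd_gcd h3 h2))
      have : Fact s.Prime := ⟨hs⟩
      obtain ⟨u, hu⟩ := exists_prime_orderOf_dvd_card' (G := C) s h1
      have hu' : orderOf (u : X) = s := by rw [orderOf_coe, hu]
      have hcom : Commute (u : X) z := mem_centralizer_singleton_iff.1 u.2
      have hw : orderOf (z ^ (orderOf z / r)) = r := by
        rw [orderOf_pow_of_dvd (Nat.div_pos (Nat.le_of_dvd (orderOf_pos z) hrz) hrp.pos).ne'
          (Nat.div_dvd_of_dvd hrz), Nat.div_div_self hrz (orderOf_pos z).ne']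
      have hrs : r ≠ s := by
        intro h3
        exact hst (h3 ▸ hrz.trans hzt)
      apply hno r s hrp hs (hrz.trans hzt) hst (z ^ (orderOf z / r) * u)
      rw [((hcom.pow_right _).symm).orderOf_mul_eq_mul_orderOf_of_coprime, hw, hu']
      rw [hw, hu']
      exact (Nat.coprime_primes hrp hs).2 hrs
    have h1 : Nat.card C ∣ t * m := hcard ▸ card_subgroup_dvd_card C
    have h2 : Nat.card C ∣ t := hCm.dvd_of_dvd_mul_right h1
    have h3 : zpowers x = C := by
      apply eq_of_le_of_card_ge hTC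
      rw [Nat.card_zpowers, hx]
      exact Nat.le_of_dvd (by omega) h2
    rw [h3]
    exact hgC

omit [Finite X] in
/-- the number of conjugates -/
theorem card_conj_eq (T : Subgroup X) :
    Nat.card ({S : Subgroup X | ∃ g : X, MulAut.conj g • T = S} : Set (Subgroup X)) =
      (normalizer (T : Set X)).index := by
  let _ := MulAction.compHom (Subgroup X) (MulAut.conj : X →* MulAut X)
  have h1 : MulAction.stabilizer X T = normalizer (T : Set X) := by
    ext g
    rw [MulAction.mem_stabilizer_iff]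
    change MulAut.conj g • T = T ↔ _
    rw [mem_normalizer_iff]
    constructor
    · intro h a
      have h1 := smul_mem_pointwise_smul_iff (a := MulAut.conj g) (S := T) (x := a)
      rw [h] at h1
      exact h1.symm
    · intro h
      ext b
      rw [mem_pointwise_smul_iff_inv_smul_mem, h, ← map_inv]
      change g * (g⁻¹ * b * g⁻¹⁻¹) * g⁻¹ ∈ T ↔ b ∈ T
      rw [show g * (g⁻¹ * b * g⁻¹⁻¹) * g⁻¹ = b by group]
  have h2 : ({S : Subgroup X | ∃ g : X, MulAut.conj g • T = S} : Set (Subgroup X)) = MulAction.orbit X T := by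
    ext S
    rfl
  rw [h2, ← h1, MulAction.index_stabilizer]
  rfl

variable {T : Subgroup X}

omit [Finite X] in
theorem Iso.comm (h : Iso T) {a b : X} (ha : a ∈ T) (hb : b ∈ T) : a * b = b * a := by
  have := h.cyc
  have h1 := (IsCyclic.isMulCommutative (α := T)).is_comm.comm ⟨a, ha⟩ ⟨b, hb⟩
  exact congrArg Subtype.val h1

omit [Finite X] in
theorem Iso.centralizer_eq (h : Iso T) {z : X} (hz : z ∈ T) (hz1 : z ≠ 1) : centralizer ({z} : Set X) = T := by
  apply le_antisymm
  · intro g hg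
    rw [mem_centralizer_singleton_iff] at hg
    exact h.cent z hz hz1 g hg
  · intro g hg
    rw [mem_centralizer_singleton_iff]
    exact h.comm hg hz

omit [Finite X] in
theorem Iso.conj_mem (h : Iso T) {g z : X} (hz : z ∈ T) (hz1 : z ≠ 1) (hg : g * z * g⁻¹ ∈ T) {a : X} (ha : a ∈ T) :
    g * a * g⁻¹ ∈ T := by
  apply h.cent _ hg
  · intro h1
    exact hz1 (conj_eq_one_iff.1 h1)
  · rw [show g * a * g⁻¹ * (g * z * g⁻¹) = g * (a * z) * g⁻¹ by group, h.comm ha hz]
    group

omit [Finite X] in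
theorem Iso.mem_normalizer (h : Iso T) {g z : X} (hz : z ∈ T) (hz1 : z ≠ 1) (hg : g * z * g⁻¹ ∈ T) :
    g ∈ normalizer (T : Set X) := by
  rw [mem_normalizer_iff]
  intro a
  refine ⟨fun ha => h.conj_mem hz hz1 hg ha, fun ha => ?_⟩
  have h1 : g⁻¹ * (g * z * g⁻¹) * g⁻¹⁻¹ ∈ T := by
    rwa [show g⁻¹ * (g * z * g⁻¹) * g⁻¹⁻¹ = z by group]
  have h2 := h.conj_mem hg (fun h3 => hz1 (conj_eq_one_iff.1 h3)) h1 ha
  rwa [show g⁻¹ * (g * a * g⁻¹) * g⁻¹⁻¹ = a by group] at h2

/-- an `r`-subgroup is conjugate into `T` -/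
theorem Iso.exists_conj_le (h : Iso T) {r : ℕ} (hr : r.Prime) (hrt : r ∣ Nat.card T) {P : Subgroup X}
    (hP : IsPGroup r P) : ∃ g : X, ∀ y ∈ P, g * y * g⁻¹ ∈ T := by
  have : Fact r.Prime := ⟨hr⟩
  obtain ⟨P', hP'⟩ := hP.exists_le_sylow
  let Q : Sylow r T := default
  have hQ : Nat.card ((Q : Subgroup T).map T.subtype) = r ^ (Nat.card X).factorization r := by
    rw [card_map_of_injective T.subtype_injective, Q.card_eq_multiplicity]
    congr 1
    rw [← T.card_mul_index, Nat.factorization_mul Nat.card_pos.ne' T.index_ne_zero_of_finite, Finsupp.add_apply,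
      Nat.factorization_eq_zero_of_not_dvd (n := T.index), add_zero]
    intro h1
    exact hr.one_lt.ne' (Nat.dvd_one.1 (h.cop ▸ Nat.dvd_gcd hrt h1))
  let Q' : Sylow r X := Sylow.ofCard ((Q : Subgroup T).map T.subtype) hQ
  obtain ⟨g, hg⟩ := MulAction.exists_smul_eq X P' Q'
  refine ⟨g, fun y hy => ?_⟩
  have h1 : g * y * g⁻¹ ∈ (Q' : Subgroup X) := by
    rw [← hg]
    exact smul_mem_pointwise_smul y (MulAut.conj g) _ (hP' hy)
  exact map_subtype_le _ h1

theorem Iso.isCyclic_pgroup (h : Iso T) {r : ℕ} (hr : r.Prime) (hrt : r ∣ Nat.card T) {P : Subgroup X}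
    (hP : IsPGroup r P) : IsCyclic P := by
  obtain ⟨g, hg⟩ := h.exists_conj_le hr hrt hP
  have := h.cyc
  let f : P →* T :=
    { toFun := fun y => ⟨g * y * g⁻¹, hg y y.2⟩
      map_one' := Subtype.ext (by simp)
      map_mul' := fun a b => Subtype.ext (by
        change g * (a * b) * g⁻¹ = (g * a * g⁻¹) * (g * b * g⁻¹)
        group) }
  refine isCyclic_of_injective f fun a b hab => ?_
  have h1 : g * (a : X) * g⁻¹ = g * b * g⁻¹ := congrArg Subtype.val hab
  exact Subtype.ext (mul_left_cancel (mul_right_cancel h1))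

theorem Iso.exists_conj_mem (h : Iso T) {r : ℕ} (hr : r.Prime) (hrt : r ∣ Nat.card T) {x : X} (hx : r ∣ orderOf x) :
    ∃ g : X, g * x * g⁻¹ ∈ T := by
  have : Fact r.Prime := ⟨hr⟩
  have h0 : 0 < orderOf x := orderOf_pos x
  have hw : orderOf (x ^ (orderOf x / r)) = r := by
    rw [orderOf_pow_of_dvd (Nat.div_pos (Nat.le_of_dvd h0 hx) hr.pos).ne'
      (Nat.div_dvd_of_dvd hx), Nat.div_div_self hx h0.ne']
  set w := x ^ (orderOf x / r) with hw'
  have hP : IsPGroup r (zpowers w) := by
    apply IsPGroup.of_card (n := 1)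
    rw [Nat.card_zpowers, hw, pow_one]
  obtain ⟨g, hg⟩ := h.exists_conj_le hr hrt hP
  have h1 := hg w (mem_zpowers w)
  refine ⟨g, h.cent _ h1 ?_ _ ?_⟩
  · intro h2
    rw [conj_eq_one_iff.1 h2, orderOf_one] at hw
    exact hr.one_lt.ne hw
  · rw [show g * x * g⁻¹ * (g * w * g⁻¹) = g * (x * w) * g⁻¹ by group,
      show g * w * g⁻¹ * (g * x * g⁻¹) = g * (w * x) * g⁻¹ by group, hw', ← pow_succ, ← pow_succ']

/-- the elements of order `|T|` are the generators of the conjugates of `T` -/
theorem Iso.exists_conj_zpowers (h : Iso T) {x : X} (hx : orderOf x = Nat.card T) :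
    ∃ g : X, MulAut.conj g • T = zpowers x := by
  have h1 := h.one_lt
  have hrp := Nat.minFac_prime h1.ne'
  have hrt := Nat.minFac_dvd (Nat.card T)
  obtain ⟨g, hg⟩ := h.exists_conj_mem hrp hrt (x := x) (by rw [hx]; exact hrt)
  refine ⟨g⁻¹, ?_⟩
  symm
  apply eq_of_le_of_card_ge
  · rw [zpowers_le, mem_pointwise_smul_iff_inv_smul_mem, ← map_inv, inv_inv]
    exact hg
  · rw [Nat.card_zpowers, hx]
    exact (Nat.card_congr (equivSMul (MulAut.conj g⁻¹) T).toEquiv).ge

/-- the count -/
theorem Iso.card_orderOf (h : Iso T) :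
    Nat.card {x : X // orderOf x = Nat.card T} = Nat.totient (Nat.card T) * (normalizer (T : Set X)).index := by
  have h1 := Cfsg.Agent.H496.CyclicCount.card_eq_totient_mul (G := X) (d := Nat.card T) {x | orderOf x = Nat.card T}
    (fun y hy => hy) (by
      intro y hy y' hy'
      change orderOf y' = Nat.card T
      rw [← Nat.card_zpowers, hy', Nat.card_zpowers]
      exact hy)
  change Nat.card {x : X | orderOf x = Nat.card T} = _
  rw [h1]
  congr 1
  have h2 : (zpowers '' {x : X | orderOf x = Nat.card T} : Set (Subgroup X)) =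
      {S : Subgroup X | ∃ g : X, MulAut.conj g • T = S} := by
    ext S
    constructor
    · rintro ⟨x, hx, rfl⟩
      exact h.exists_conj_zpowers hx
    · rintro ⟨g, rfl⟩
      have := h.cyc
      obtain ⟨⟨x, hx⟩, hgen⟩ := IsCyclic.exists_generator (α := T)
      have h3 : zpowers x = T := by
        apply le_antisymm
        · rwa [zpowers_le]
        · intro y hy
          obtain ⟨i, hi⟩ := mem_zpowers_iff.1 (hgen ⟨y, hy⟩)
          exact mem_zpowers_iff.2 ⟨i, congrArg Subtype.val hi⟩
      refine ⟨g * x * g⁻¹, ?_, ?_⟩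
      · change orderOf _ = _
        rw [← h3, Nat.card_zpowers]
        exact orderOf_injective (MulAut.conj g).toMonoidHom (MulAut.conj g).injective x
      · rw [← h3]
        change zpowers (MulAut.conj g x) = (zpowers x).map (MulAut.conj g).toMonoidHom
        rw [MonoidHom.map_zpowers]
        rfl
  rw [h2]
  exact card_conj_eq T

/-- a prime order element of `T` -/
theorem Iso.exists_prime (_ : Iso T) {r : ℕ} (hr : r.Prime) (hrt : r ∣ Nat.card T) :
    ∃ z ∈ T, orderOf z = r ∧ z ≠ 1 := by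
  have : Fact r.Prime := ⟨hr⟩
  obtain ⟨u, hu⟩ := exists_prime_orderOf_dvd_card' (G := T) r hrt
  refine ⟨u, u.2, by rw [orderOf_coe, hu], ?_⟩
  intro h1
  rw [← orderOf_coe, h1, orderOf_one] at hu
  exact hr.one_lt.ne hu

/-- the unique subgroup of prime order in `T` -/
theorem Iso.zpowers_eq (h : Iso T) {r : ℕ} {x y : X} (hx : x ∈ T) (hy : y ∈ T)
    (hx1 : orderOf x = r) (hy1 : orderOf y = r) : zpowers x = zpowers y := by
  apply OddOrderLocal.CyclicSub.eq_of_card_eq_of_le_cyclic h.cyc
  · rwa [zpowers_le]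
  · rwa [zpowers_le]
  · rw [Nat.card_zpowers, Nat.card_zpowers, hx1, hy1]

/-- the normalizer of the subgroup of order `r` of `T` is the normalizer of `T` -/
theorem Iso.normalizer_zpowers (h : Iso T) {r : ℕ} (hr : r.Prime) {z : X} (hz : z ∈ T) (hz1 : orderOf z = r) :
    normalizer (zpowers z : Set X) = normalizer (T : Set X) := by
  have hz2 : z ≠ 1 := by
    rintro rfl
    rw [orderOf_one] at hz1
    exact hr.one_lt.ne hz1
  ext g
  constructor
  · intro hg
    rw [mem_normalizer_iff] at hg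
    have h1 := (hg z).1 (mem_zpowers z)
    refine h.mem_normalizer hz hz2 ?_
    have h2 : zpowers z ≤ T := by rwa [zpowers_le]
    exact h2 h1
  · intro hg
    have hg1 : ∀ g ∈ normalizer (T : Set X), ∀ a ∈ zpowers z, g * a * g⁻¹ ∈ zpowers z := by
      intro g hg a ha
      rw [mem_normalizer_iff] at hg
      have h1 := h.zpowers_eq hz ((hg z).1 hz) hz1
        ((orderOf_injective (MulAut.conj g).toMonoidHom (MulAut.conj g).injective z).trans hz1)
      obtain ⟨i, rfl⟩ := mem_zpowers_iff.1 ha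
      have h2 : g * z * g⁻¹ ∈ zpowers z := by
        rw [h1]
        exact mem_zpowers _
      have h3 : g * z ^ i * g⁻¹ = (g * z * g⁻¹) ^ i := by
        rw [← conj_zpow]
      rw [h3]
      exact zpow_mem h2 i
    rw [mem_normalizer_iff]
    intro a
    refine ⟨hg1 g hg a, fun ha => ?_⟩
    have := hg1 g⁻¹ (inv_mem hg) _ ha
    rwa [show g⁻¹ * (g * a * g⁻¹) * g⁻¹⁻¹ = a by group] at this

/-- the automizer is a subgroup of the units mod `r` -/
theorem Iso.exists_hom (h : Iso T) {r : ℕ} (hr : r.Prime) (hrt : r ∣ Nat.card T) :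
    ∃ (z : X) (_ : orderOf z = r) (f : normalizer (T : Set X) →* MulAut (zpowers z)),
      f.ker = T.subgroupOf (normalizer (T : Set X)) := by
  obtain ⟨z, hz, hz1, hz2⟩ := h.exists_prime hr hrt
  refine ⟨z, hz1, (zpowers z).normalizerMonoidHom.comp (MulEquiv.subgroupCongr
    (h.normalizer_zpowers hr hz hz1).symm).toMonoidHom, ?_⟩
  ext ⟨g, hg⟩
  rw [mem_subgroupOf, MonoidHom.mem_ker, MonoidHom.comp_apply, ← MonoidHom.mem_ker,
    normalizerMonoidHom_ker, mem_subgroupOf]
  change g ∈ centralizer (zpowers z : Set X) ↔ g ∈ T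
  rw [← h.centralizer_eq hz hz2]
  rw [mem_centralizer_iff, mem_centralizer_singleton_iff]
  constructor
  · intro h1
    exact (h1 z (mem_zpowers z)).symm
  · intro h1 a ha
    obtain ⟨i, rfl⟩ := mem_zpowers_iff.1 ha
    exact ((show Commute g z from h1).zpow_right i).symm

theorem Iso.relIndex_dvd (h : Iso T) {r : ℕ} (hr : r.Prime) (hrt : r ∣ Nat.card T) :
    T.relIndex (normalizer (T : Set X)) ∣ r - 1 := by
  obtain ⟨z, hz, f, hf⟩ := h.exists_hom hr hrt
  have h1 : T.relIndex (normalizer (T : Set X)) = Nat.card f.range := by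
    rw [relIndex, ← hf, index_ker]
  rw [h1, ← Nat.totient_prime hr, ← hz, ← Nat.card_zpowers, ← IsCyclic.card_mulAut]
  exact card_subgroup_dvd_card _

theorem Iso.isCyclic_of_disjoint (h : Iso T) {Q : Subgroup X} (hQ : Q ≤ normalizer (T : Set X)) (hQT : Q ⊓ T = ⊥) :
    IsCyclic Q := by
  have hr := Nat.minFac_prime h.one_lt.ne'
  obtain ⟨z, hz, f, hf⟩ := h.exists_hom hr (Nat.minFac_dvd _)
  have : Fact (Nat.card (zpowers z)).Prime := ⟨by rwa [Nat.card_zpowers, hz]⟩
  have h1 : IsCyclic (MulAut (zpowers z)) :=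
    isCyclic_of_injective (IsCyclic.mulAutMulEquiv (zpowers z)).toMonoidHom
      (IsCyclic.mulAutMulEquiv (zpowers z)).injective
  refine isCyclic_of_injective (f.comp (inclusion hQ)) ?_
  rw [injective_iff_map_eq_one]
  intro a ha
  have h2 : inclusion hQ a ∈ f.ker := ha
  rw [hf, mem_subgroupOf] at h2
  have h3 : (a : X) ∈ Q ⊓ T := ⟨a.2, h2⟩
  rw [hQT, mem_bot] at h3
  exact Subtype.ext h3

end Cfsg.Agent.H702.TF
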