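import Mathlib
import Cfsg.Agent.H702.Iso

/-!
# Isolated cyclic Hall subgroups: quotients by normal subgroups of coprime order (helper702)
-/

set_option autoImplicit false

namespace Cfsg.Agent.H702.TF

open Subgroup
open scoped Pointwise

variable {X : Type*} [Group X] [Finite X]

omit [Finite X] in
theorem mk_injOn {V H : Subgroup X} [V.Normal] (hH : H ⊓ V = ⊥) {a b : X} (ha : a ∈ H) (hb : b ∈ H)
    (hab : (QuotientGroup.mk' V a) = QuotientGroup.mk' V b) : a = b := by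
  have h1 : a⁻¹ * b ∈ V := QuotientGroup.eq.1 hab
  have h2 : a⁻¹ * b ∈ H ⊓ V := ⟨H.mul_mem (H.inv_mem ha) hb, h1⟩
  rw [hH, mem_bot] at h2
  exact (inv_mul_eq_one.1 h2)

omit [Finite X] in
theorem card_map_mk {V H : Subgroup X} [V.Normal] (hH : H ⊓ V = ⊥) :
    Nat.card (H.map (QuotientGroup.mk' V)) = Nat.card H := by
  symm
  refine Nat.card_congr (Equiv.ofBijective
    (fun a : H => (⟨QuotientGroup.mk' V a, mem_map_of_mem _ a.2⟩ : H.map (QuotientGroup.mk' V))) ⟨?_, ?_⟩)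
  · intro a b hab
    exact Subtype.ext (mk_injOn hH a.2 b.2 (congrArg Subtype.val hab))
  · rintro ⟨_, a, ha, rfl⟩
    exact ⟨⟨a, ha⟩, rfl⟩

variable {T : Subgroup X}

omit [Finite X] in
theorem Iso.inf_eq_bot {V : Subgroup X} (hV : (Nat.card V).Coprime (Nat.card T)) : V ⊓ T = ⊥ := by
  rw [eq_bot_iff_card]
  exact Nat.dvd_one.1 (hV ▸ Nat.dvd_gcd (card_dvd_of_le inf_le_left) (card_dvd_of_le inf_le_right))

/-- elements of `V` as commutators -/
theorem Iso.exists_conj (h : Iso T) {V : Subgroup X} [hn : V.Normal] (hV : (Nat.card V).Coprime (Nat.card T)) {z : X}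
    (hz : z ∈ T) (hz1 : z ≠ 1) {w : X} (hw : w ∈ V) : ∃ v ∈ V, w * z = v * z * v⁻¹ := by
  let f : V → V := fun v => ⟨v * (z * (v : X)⁻¹ * z⁻¹), mul_mem v.2 (hn.conj_mem _ (inv_mem v.2) z)⟩
  have hf : Function.Injective f := by
    intro a b hab
    have h1 : (a : X) * (z * (a : X)⁻¹ * z⁻¹) = b * (z * (b : X)⁻¹ * z⁻¹) := congrArg Subtype.val hab
    have h2 : (b : X)⁻¹ * a ∈ T := by
      apply h.cent z hz hz1
      have h3 : (a : X) * z * (a : X)⁻¹ = b * z * (b : X)⁻¹ := by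
        apply mul_right_cancel (b := z⁻¹)
        simpa only [mul_assoc] using h1
      calc (b : X)⁻¹ * a * z = (b : X)⁻¹ * ((a : X) * z * (a : X)⁻¹) * a := by group
        _ = (b : X)⁻¹ * ((b : X) * z * (b : X)⁻¹) * a := by rw [h3]
        _ = z * ((b : X)⁻¹ * a) := by group
    have h4 : (b : X)⁻¹ * a ∈ V ⊓ T := ⟨V.mul_mem (V.inv_mem b.2) a.2, h2⟩
    rw [Iso.inf_eq_bot hV, mem_bot] at h4
    exact Subtype.ext (inv_mul_eq_one.1 h4).symm
  obtain ⟨v, hv⟩ := (Finite.surjective_of_injective hf) ⟨w, hw⟩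
  refine ⟨v, v.2, ?_⟩
  have h1 : (v : X) * (z * (v : X)⁻¹ * z⁻¹) = w := congrArg Subtype.val hv
  rw [← h1]
  group

theorem Iso.exists_factor (h : Iso T) {V : Subgroup X} [hn : V.Normal] (hV : (Nat.card V).Coprime (Nat.card T))
    {g z u : X} (hz : z ∈ T) (hz1 : z ≠ 1) (hu : u ∈ T)
    (hg : QuotientGroup.mk' V (g * z * g⁻¹) = QuotientGroup.mk' V u) :
    ∃ v ∈ V, (v⁻¹ * g) * z * (v⁻¹ * g)⁻¹ = u := by
  have h1 : (g * z * g⁻¹) * u⁻¹ ∈ V := by
    rw [← QuotientGroup.eq_one_iff]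
    change QuotientGroup.mk' V ((g * z * g⁻¹) * u⁻¹) = 1
    rw [map_mul, hg, map_inv, mul_inv_cancel]
  have hu1 : u ≠ 1 := by
    rintro rfl
    rw [map_one, ← map_one (QuotientGroup.mk' V)] at hg
    have h2 : g * z * g⁻¹ ∈ V := by
      rw [← QuotientGroup.eq_one_iff]
      exact hg
    have h3 : z ∈ V := by
      have := hn.conj_mem _ h2 g⁻¹
      rwa [show g⁻¹ * (g * z * g⁻¹) * g⁻¹⁻¹ = z by group] at this
    have h4 : z ∈ V ⊓ T := ⟨h3, hz⟩
    rw [Iso.inf_eq_bot hV, mem_bot] at h4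
    exact hz1 h4
  obtain ⟨v, hv, hv1⟩ := h.exists_conj hV hu hu1 h1
  refine ⟨v, hv, ?_⟩
  have h2 : g * z * g⁻¹ = v * u * v⁻¹ := by
    rw [← hv1]
    group
  calc (v⁻¹ * g) * z * (v⁻¹ * g)⁻¹ = v⁻¹ * (g * z * g⁻¹) * v := by group
    _ = v⁻¹ * (v * u * v⁻¹) * v := by rw [h2]
    _ = u := by group

theorem Iso.quot (h : Iso T) {V : Subgroup X} [hn : V.Normal] (hV : (Nat.card V).Coprime (Nat.card T)) :
    Iso (T.map (QuotientGroup.mk' V)) := by
  have hTV : T ⊓ V = ⊥ := by rw [inf_comm, Iso.inf_eq_bot hV]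
  have hcard := card_map_mk hTV
  have := h.cyc
  constructor
  · exact isCyclic_of_surjective ((QuotientGroup.mk' V).subgroupMap T) ((QuotientGroup.mk' V).subgroupMap_surjective T)
  · rw [hcard]
    exact h.odd
  · rw [hcard]
    exact h.one_lt
  · rw [hcard]
    refine Nat.Coprime.coprime_dvd_right ?_ h.cop
    rw [index_map, (QuotientGroup.mk' V).range_eq_top_of_surjective (QuotientGroup.mk'_surjective V), index_top, mul_one]
    exact index_dvd_of_le le_sup_left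
  · rintro _ ⟨z, hz, rfl⟩ hz1 g' hg
    obtain ⟨g, rfl⟩ := QuotientGroup.mk'_surjective V g'
    have hz2 : z ≠ 1 := by
      rintro rfl
      exact hz1 (map_one _)
    obtain ⟨v, hv, hv1⟩ := h.exists_factor hV (g := g) hz hz2 hz (by
      rw [map_mul, map_mul, hg, map_inv, mul_assoc, mul_inv_cancel, mul_one])
    have h1 : v⁻¹ * g ∈ T := h.cent z hz hz2 _ (mul_inv_eq_iff_eq_mul.1 hv1)
    refine ⟨v⁻¹ * g, h1, ?_⟩
    have h2 : QuotientGroup.mk' V v = 1 := (QuotientGroup.eq_one_iff v).2 hv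
    rw [map_mul, map_inv, h2, inv_one, one_mul]

theorem Iso.normalizer_quot (h : Iso T) {V : Subgroup X} [hn : V.Normal] (hV : (Nat.card V).Coprime (Nat.card T)) :
    normalizer (T.map (QuotientGroup.mk' V) : Set (X ⧸ V)) = (normalizer (T : Set X)).map (QuotientGroup.mk' V) := by
  apply le_antisymm
  · intro g' hg
    obtain ⟨g, rfl⟩ := QuotientGroup.mk'_surjective V g'
    obtain ⟨z, hz, -, hz1⟩ := h.exists_prime (Nat.minFac_prime h.one_lt.ne') (Nat.minFac_dvd _)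
    rw [mem_normalizer_iff] at hg
    obtain ⟨u, hu, hu1⟩ := (hg (QuotientGroup.mk' V z)).1 (mem_map_of_mem _ hz)
    obtain ⟨v, hv, hv1⟩ := h.exists_factor hV (g := g) hz hz1 hu (by
      rw [map_mul, map_mul, map_inv, hu1])
    refine ⟨v⁻¹ * g, h.mem_normalizer hz hz1 (by rw [hv1]; exact hu), ?_⟩
    have h2 : QuotientGroup.mk' V v = 1 := (QuotientGroup.eq_one_iff v).2 hv
    rw [map_mul, map_inv, h2, inv_one, one_mul]
  · exact le_normalizer_map _

theorem Iso.normalizer_inf (h : Iso T) {V : Subgroup X} [hn : V.Normal]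
    (hV : (Nat.card V).Coprime (Nat.card T)) : normalizer (T : Set X) ⊓ V = ⊥ := by
  rw [eq_bot_iff]
  rintro n ⟨hn1, hn2⟩
  obtain ⟨z, hz, -, hz1⟩ := h.exists_prime (Nat.minFac_prime h.one_lt.ne') (Nat.minFac_dvd _)
  have h1 : n * z * n⁻¹ ∈ T := (mem_normalizer_iff.1 hn1 z).1 hz
  have h2 : n * (z * n⁻¹ * z⁻¹) ∈ V ⊓ T := by
    refine ⟨V.mul_mem hn2 (hn.conj_mem _ (V.inv_mem hn2) z), ?_⟩
    have := T.mul_mem h1 (T.inv_mem hz)
    rwa [show n * z * n⁻¹ * z⁻¹ = n * (z * n⁻¹ * z⁻¹) by group] at this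
  rw [Iso.inf_eq_bot hV, mem_bot] at h2
  have h3 : n ∈ T := by
    apply h.cent z hz hz1
    have h4 : n * z * n⁻¹ * z⁻¹ = 1 := by
      rw [← h2]
      group
    exact mul_inv_eq_iff_eq_mul.1 (mul_inv_eq_one.1 h4)
  have h4 : n ∈ V ⊓ T := ⟨hn2, h3⟩
  rwa [Iso.inf_eq_bot hV] at h4

theorem Iso.card_normalizer_quot (h : Iso T) {V : Subgroup X} [hn : V.Normal]
    (hV : (Nat.card V).Coprime (Nat.card T)) :
    Nat.card (normalizer (T.map (QuotientGroup.mk' V) : Set (X ⧸ V))) = Nat.card (normalizer (T : Set X)) := by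
  rw [h.normalizer_quot hV, card_map_mk (h.normalizer_inf hV)]

end Cfsg.Agent.H702.TF
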