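import Mathlib
import Cfsg.Agent.H702.IsoQuot
import Cfsg.Agent.H864.FrobOrder
import Cfsg.Agent.S0034
import Cfsg.Agent.S0035
import Cfsg.Agent.S0039
import Cfsg.Agent.S0042
import Cfsg.Agent.Lib.NilpotentCoprime

/-!
# Isolated cyclic Hall subgroups: normal subgroups of coprime order (helper702)
-/

set_option autoImplicit false

namespace Cfsg.Agent.H702.TF

open Subgroup Cfsg
open scoped Pointwise

/-- the kernel of a Frobenius group given by a complement -/
theorem frob_of {F : Type*} [Group F] [Finite F] (K H : Subgroup F) [K.Normal] (hc : IsComplement' K H) (hK : K ≠ ⊥)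
    (hH : H ≠ ⊥) (hfpf : ∀ h ∈ H, h ≠ 1 → K ⊓ centralizer {h} = ⊥) :
    IsFrobeniusComplement H ∧ frobeniusKernel H = (K : Set F) := by
  have h1 := (Cfsg.Agent.S0039.result K H hc hK hH).2 hfpf
  refine ⟨h1, ?_⟩
  obtain ⟨N, hN, -, hNc⟩ := Cfsg.Agent.S0035.result H h1
  rw [← hN]
  have hle : K ≤ N := by
    intro x hx
    rw [← SetLike.mem_coe, hN]
    by_cases hx1 : x = 1
    · exact Or.inl hx1
    · refine Or.inr fun g hg => hx1 ?_
      rw [mem_pointwise_smul_iff_inv_smul_mem] at hg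
      have h2 : (MulAut.conj g)⁻¹ • x ∈ K := by
        rw [← map_inv]
        exact Normal.conj_mem inferInstance x hx g⁻¹
      have h3 : (MulAut.conj g)⁻¹ • x ∈ K ⊓ H := ⟨h2, hg⟩
      rw [hc.disjoint.eq_bot, mem_bot, ← map_inv, MulAut.smul_def, MulAut.conj_apply] at h3
      exact conj_eq_one_iff.1 h3
  have h4 : K = N := by
    apply eq_of_le_of_card_ge hle
    rw [← hNc.index_eq_card, hc.index_eq_card]
  rw [h4]

variable {X : Type*} [Group X] [Finite X] {T : Subgroup X}

omit [Finite X] in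
theorem isComplement_sup {V : Subgroup X} [V.Normal] (hVT : V ⊓ T = ⊥) :
    IsComplement' (V.subgroupOf (V ⊔ T)) (T.subgroupOf (V ⊔ T)) := by
  apply isComplement'_of_disjoint_and_mul_eq_univ
  · rw [disjoint_iff, eq_bot_iff]
    rintro x ⟨h1, h2⟩
    have h3 : (x : X) ∈ V ⊓ T := ⟨h1, h2⟩
    rw [hVT, mem_bot] at h3
    exact Subtype.ext h3
  · ext x
    simp only [Set.mem_univ, iff_true]
    have hx := x.2
    rw [← SetLike.mem_coe, normal_mul V T] at hx
    obtain ⟨v, hv, a, ha, hva⟩ := hx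
    exact ⟨⟨v, le_sup_left (b := T) hv⟩, hv, ⟨a, le_sup_right (a := V) ha⟩, ha, Subtype.ext hva⟩

/-- the Frobenius group `V T` -/
theorem Iso.frob (h : Iso T) {V : Subgroup X} [V.Normal] (hV : (Nat.card V).Coprime (Nat.card T)) (hV1 : V ≠ ⊥) :
    IsFrobeniusComplement (T.subgroupOf (V ⊔ T)) ∧
      frobeniusKernel (T.subgroupOf (V ⊔ T)) = (V.subgroupOf (V ⊔ T) : Set ↥(V ⊔ T)) := by
  apply frob_of
  · exact isComplement_sup (Iso.inf_eq_bot hV)
  · rw [Ne, subgroupOf_eq_bot, disjoint_iff, inf_eq_left.2 le_sup_left]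
    exact hV1
  · rw [Ne, subgroupOf_eq_bot, disjoint_iff, inf_eq_left.2 le_sup_right]
    rintro rfl
    have := h.one_lt
    rw [card_bot] at this
    omega
  · rintro ⟨z, hz⟩ hz1 hz2
    rw [eq_bot_iff]
    rintro ⟨v, hv⟩ ⟨hv1, hv2⟩
    have h1 : v ∈ T := h.cent z hz1 (fun h3 => hz2 (Subtype.ext h3)) v
      (congrArg Subtype.val (mem_centralizer_singleton_iff.1 hv2))
    have h2 : v ∈ V ⊓ T := ⟨hv1, h1⟩
    rw [Iso.inf_eq_bot hV, mem_bot] at h2
    exact Subtype.ext h2

/-- `V` is nilpotent -/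
theorem Iso.isNilpotent (h : Iso T) {V : Subgroup X} [V.Normal] (hV : (Nat.card V).Coprime (Nat.card T)) :
    Group.IsNilpotent V := by
  by_cases hV1 : V = ⊥
  · subst hV1
    infer_instance
  obtain ⟨h1, h2⟩ := h.frob hV hV1
  obtain ⟨N, hN, -, hNnil⟩ := Cfsg.Agent.S0042.result _ h1
  have h3 : N = V.subgroupOf (V ⊔ T) := SetLike.coe_injective (hN.trans h2)
  subst h3
  exact (Group.isNilpotent_congr (subgroupOfEquivOfLe (le_sup_left : V ≤ V ⊔ T))).1 hNnil

omit [Finite X] in
/-- a complement of `T` in its normalizer -/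
theorem Iso.exists_compl (h : Iso T) : ∃ R : Subgroup X, R ≤ normalizer (T : Set X) ∧ R ⊓ T = ⊥ ∧
    Nat.card R = T.relIndex (normalizer (T : Set X)) := by
  have hcop : (Nat.card (T.subgroupOf (normalizer (T : Set X)))).Coprime
      (T.subgroupOf (normalizer (T : Set X))).index := by
    rw [Nat.card_congr (subgroupOfEquivOfLe (le_normalizer (H := T))).toEquiv]
    refine Nat.Coprime.coprime_dvd_right ?_ h.cop
    exact relIndex_dvd_index_of_le le_normalizer
  obtain ⟨R, hR⟩ := exists_right_complement'_of_coprime hcop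
  refine ⟨R.map (normalizer (T : Set X)).subtype, map_subtype_le _, ?_, ?_⟩
  · rw [eq_bot_iff]
    rintro _ ⟨⟨x, hx, rfl⟩, hx2⟩
    have h1 : x ∈ T.subgroupOf (normalizer (T : Set X)) ⊓ R := ⟨hx2, hx⟩
    rw [hR.disjoint.eq_bot, mem_bot] at h1
    rw [h1]
    rfl
  · rw [card_map_of_injective (subtype_injective _), ← hR.symm.index_eq_card]
    rfl

/-- `|V|` is a power with exponent `|N(T) : T|` -/
theorem Iso.exists_pow (h : Iso T) {V : Subgroup X} [V.Normal] (hV : (Nat.card V).Coprime (Nat.card T)) :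
    ∃ y, Nat.card V = y ^ (T.relIndex (normalizer (T : Set X))) := by
  obtain ⟨R, hRN, hRT, hR⟩ := h.exists_compl
  have hnil := h.isNilpotent hV
  have := h.cyc
  let _ : MulDistribMulAction X V := MulDistribMulAction.compHom V (MulAut.conjNormal : X →* MulAut V)
  have hp : Cfsg.Agent.H522.FrobPair T R := by
    constructor
    · intro r hr f hf
      exact (mem_normalizer_iff.1 (hRN hr) f).1 hf
    · intro r hr hr1 f hf hrf
      by_contra hf1
      have h1 : r ∈ R ⊓ T := ⟨hr, h.cent f hf hf1 r hrf⟩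
      rw [hRT, mem_bot] at h1
      exact hr1 h1
  have hTnil : Group.IsNilpotent T :=
    ⟨1, (Subgroup.upperCentralSeries_one_eq_top_iff).2 (IsCyclic.isMulCommutative (α := T))⟩
  rw [← hR]
  refine ⟨_, Cfsg.Agent.H864.FrobOrder.card_eq hp hTnil (Nat.card V) V le_rfl inferInstance ?_⟩
  intro v hv
  obtain ⟨z, hz, -, hz1⟩ := h.exists_prime (Nat.minFac_prime h.one_lt.ne') (Nat.minFac_dvd _)
  have h1 : z * v * z⁻¹ = v := congrArg Subtype.val (hv z hz)
  have h2 : (v : X) ∈ V ⊓ T := ⟨v.2, h.cent z hz hz1 _ (mul_inv_eq_iff_eq_mul.1 h1).symm⟩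
  rw [Iso.inf_eq_bot hV, mem_bot] at h2
  exact Subtype.ext h2

theorem Iso.modEq (h : Iso T) {V : Subgroup X} [V.Normal] (hV : (Nat.card V).Coprime (Nat.card T)) :
    Nat.card T ∣ Nat.card V - 1 := by
  by_cases hV1 : V = ⊥
  · rw [hV1, card_bot]
    exact dvd_zero _
  have h1 := (Cfsg.Agent.S0034.result _ (h.frob hV hV1).1).2
  have h2 : (T.subgroupOf (V ⊔ T)).index = Nat.card V := by
    rw [(isComplement_sup (Iso.inf_eq_bot hV)).index_eq_card]
    exact Nat.card_congr (subgroupOfEquivOfLe (le_sup_left : V ≤ V ⊔ T)).toEquiv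
  rw [h2, Nat.card_congr (subgroupOfEquivOfLe (le_sup_right : T ≤ V ⊔ T)).toEquiv] at h1
  exact (Nat.modEq_iff_dvd' Nat.card_pos).1 (Eq.symm h1)

/-- the `s`-part of `|V|` is `1` modulo `|T|` -/
theorem Iso.dvd_fac (h : Iso T) {V : Subgroup X} [V.Normal] (hV : (Nat.card V).Coprime (Nat.card T)) {s : ℕ}
    (hs : s.Prime) : Nat.card T ∣ s ^ (Nat.card V).factorization s - 1 := by
  have : Fact s.Prime := ⟨hs⟩
  have hnil := h.isNilpotent hV
  let P : Sylow s V := default
  have hP : (P : Subgroup V).Normal := by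
    have := (Group.isNilpotent_of_finite_tfae (G := V)).out 0 3
    exact this.1 hnil s ‹_› P
  have hPc := P.characteristic_of_normal hP
  have h1 : Nat.card ((P : Subgroup V).map V.subtype) = s ^ (Nat.card V).factorization s := by
    rw [card_map_of_injective V.subtype_injective, P.card_eq_multiplicity]
  rw [← h1]
  apply h.modEq
  exact Nat.Coprime.coprime_dvd_left (card_dvd_of_le (map_subtype_le _)) hV

end Cfsg.Agent.H702.TF
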