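import Mathlib
import Cfsg.Agent.H702.Pow
import Cfsg.Agent.Lib.Cores

/-!
# Isolated cyclic Hall subgroups: the simple normal subgroup (helper702)
-/

set_option autoImplicit false

namespace Cfsg.Agent.H702.TF

open Subgroup Cfsg
open scoped Pointwise

/-! ### the largest normal subgroup of order coprime to `t` -/

/-- the largest normal subgroup of order coprime to `t` -/
def Ot (t : ℕ) (G : Type*) [Group G] : Subgroup G := sSup {N : Subgroup G | N.Normal ∧ (Nat.card N).Coprime t}

theorem le_Ot {t : ℕ} {G : Type*} [Group G] {N : Subgroup G} (hN : N.Normal) (h : (Nat.card N).Coprime t) :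
    N ≤ Ot t G := le_sSup ⟨hN, h⟩

theorem Ot_char (t : ℕ) (G : Type*) [Group G] : (Ot t G).Characteristic := by
  apply Lib.Cores.sSup_characteristic
  rintro e N ⟨h1, h2⟩
  refine ⟨h1.map _ e.surjective, ?_⟩
  rwa [card_map_of_injective e.injective]

theorem card_sup_dvd {G : Type*} [Group G] (A B : Subgroup G) [A.Normal] :
    Nat.card ↥(A ⊔ B) ∣ Nat.card A * Nat.card B := by
  have h2 : Nat.card A * A.relIndex (A ⊔ B) = Nat.card ↥(A ⊔ B) := by
    rw [← Nat.card_congr (subgroupOfEquivOfLe (le_sup_left : A ≤ A ⊔ B)).toEquiv]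
    exact card_mul_index _
  rw [← h2, relIndex_sup_left]
  exact Nat.mul_dvd_mul_left _ (relIndex_dvd_card _ _)

theorem closure_normal_of {G : Type*} [Group G] {s : Set G} (h : ∀ g : G, ∀ x ∈ s, g * x * g⁻¹ ∈ s) :
    (closure s).Normal := by
  refine ⟨fun n hn g => ?_⟩
  induction hn using closure_induction with
  | mem x hx => exact subset_closure (h g x hx)
  | one => simp
  | mul x y _ _ hx hy =>
    have := (closure s).mul_mem hx hy
    rwa [show g * x * g⁻¹ * (g * y * g⁻¹) = g * (x * y) * g⁻¹ by group] at this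
  | inv x _ hx =>
    have := (closure s).inv_mem hx
    rwa [show (g * x * g⁻¹)⁻¹ = g * x⁻¹ * g⁻¹ by group] at this

instance Ot_normal (t : ℕ) (G : Type*) [Group G] : (Ot t G).Normal := by
  have := Ot_char t G
  infer_instance

theorem Ot_coprime (t : ℕ) (G : Type*) [Group G] [Finite G] : (Nat.card (Ot t G)).Coprime t := by
  have h : (Ot t G).Normal ∧ (Nat.card (Ot t G)).Coprime t := by
    unfold Ot
    refine Lib.Cores.sSup_induction_of_finite (P := fun N => N.Normal ∧ (Nat.card N).Coprime t) _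
      ⟨inferInstance, by rw [card_bot]; exact Nat.coprime_one_left t⟩ (fun N hN => hN) ?_
    rintro A B ⟨hA1, hA2⟩ ⟨hB1, hB2⟩
    refine ⟨inferInstance, ?_⟩
    have h1 : Nat.card ↥(A ⊔ B) ∣ Nat.card A * Nat.card B := card_sup_dvd A B
    exact Nat.Coprime.coprime_dvd_left h1 (Nat.Coprime.mul_left hA2 hB2)
  exact h.2

variable {X : Type*} [Group X] [Finite X] {T : Subgroup X}

/-- elements of order `r` of a subgroup `M` are fused in `M` up to powers -/
theorem Iso.fuse (h : Iso T) {r : ℕ} (hr : r.Prime) (hrt : r ∣ Nat.card T) (M : Subgroup X) {x y : X} (hx : x ∈ M)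
    (hy : y ∈ M) (hx1 : orderOf x = r) (hy1 : orderOf y = r) :
    ∃ g ∈ M, zpowers x = zpowers (g * y * g⁻¹) := by
  have : Fact r.Prime := ⟨hr⟩
  have hP1 : IsPGroup r (zpowers (⟨x, hx⟩ : M)) := by
    apply IsPGroup.of_card (n := 1)
    rw [Nat.card_zpowers, ← orderOf_coe, pow_one, hx1]
  have hQ1 : IsPGroup r (zpowers (⟨y, hy⟩ : M)) := by
    apply IsPGroup.of_card (n := 1)
    rw [Nat.card_zpowers, ← orderOf_coe, pow_one, hy1]
  obtain ⟨P, hP⟩ := hP1.exists_le_sylow
  obtain ⟨Q, hQ⟩ := hQ1.exists_le_sylow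
  obtain ⟨g, hg⟩ := MulAction.exists_smul_eq M Q P
  refine ⟨g, g.2, ?_⟩
  have hc : IsCyclic ((P : Subgroup M).map M.subtype) :=
    h.isCyclic_pgroup hr hrt (P.isPGroup'.map M.subtype)
  apply OddOrderLocal.CyclicSub.eq_of_card_eq_of_le_cyclic hc
  · rw [zpowers_le]
    exact ⟨⟨x, hx⟩, hP (mem_zpowers _), rfl⟩
  · rw [zpowers_le]
    refine ⟨g * ⟨y, hy⟩ * g⁻¹, ?_, rfl⟩
    rw [SetLike.mem_coe, ← hg]
    exact smul_mem_pointwise_smul _ (MulAut.conj g) _ (hQ (mem_zpowers _))
  · rw [Nat.card_zpowers, Nat.card_zpowers, hx1]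
    exact ((orderOf_injective (MulAut.conj (g : X)).toMonoidHom (MulAut.conj (g : X)).injective y).trans hy1).symm

/-- **the simple normal subgroup** -/
theorem Iso.exists_simple (h : Iso T) (hO : ∀ N : Subgroup X, N.Normal → (Nat.card N).Coprime (Nat.card T) → N = ⊥)
    (hTn : ¬ T.Normal) :
    ∃ S : Subgroup X, S.Normal ∧ IsSimpleGroup S ∧ (¬ ∀ a b : S, a * b = b * a) ∧
      ∃ r : ℕ, r.Prime ∧ r ∣ Nat.card T ∧ r ∣ Nat.card S := by
  -- a minimal normal subgroup
  obtain ⟨M, ⟨hMn, hM1⟩, hMmin⟩ := (Set.toFinite {N : Subgroup X | N.Normal ∧ N ≠ ⊥}).exists_minimal ⟨⊤, by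
    refine ⟨inferInstance, ?_⟩
    intro h1
    have h2 := h.one_lt
    have h3 : T = ⊥ := le_bot_iff.1 (h1 ▸ le_top)
    rw [h3, card_bot] at h2
    omega⟩
  have hmin : ∀ N : Subgroup X, N.Normal → N ≠ ⊥ → N ≤ M → N = M := fun N h1 h2 h3 =>
    le_antisymm h3 (hMmin ⟨h1, h2⟩ h3)
  have hnc : ¬ (Nat.card M).Coprime (Nat.card T) := fun h1 => hM1 (hO M hMn h1)
  rw [Nat.Prime.not_coprime_iff_dvd] at hnc
  obtain ⟨r, hr, hrM, hrt⟩ := hnc
  have : Fact r.Prime := ⟨hr⟩
  refine ⟨M, hMn, ?_, ?_, r, hr, hrt, hrM⟩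
  · have : Nontrivial M := (nontrivial_iff_ne_bot M).2 hM1
    refine ⟨fun N hN => ?_⟩
    by_cases hc : (Nat.card N).Coprime (Nat.card T)
    · left
      have h1 : (Ot (Nat.card T) M).map M.subtype = ⊥ := by
        have := Ot_char (Nat.card T) M
        apply hO
        · infer_instance
        · rw [card_map_of_injective M.subtype_injective]
          exact Ot_coprime _ _
      rw [map_eq_bot_iff_of_injective _ M.subtype_injective] at h1
      exact le_bot_iff.1 (h1 ▸ le_Ot hN hc)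
    · right
      rw [Nat.Prime.not_coprime_iff_dvd] at hc
      obtain ⟨s, hs, hsN, hst⟩ := hc
      have : Fact s.Prime := ⟨hs⟩
      obtain ⟨⟨y, hy⟩, hy1⟩ := exists_prime_orderOf_dvd_card' (G := N) s hsN
      rw [← orderOf_coe] at hy1
      change orderOf y = s at hy1
      set W := closure {x : X | x ∈ M ∧ orderOf x = s} with hW
      have hWn : W.Normal := by
        apply closure_normal_of
        rintro g x ⟨hx1, hx2⟩
        exact ⟨hMn.conj_mem x hx1 g, (orderOf_injective (MulAut.conj g).toMonoidHom (MulAut.conj g).injective x).trans hx2⟩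
      have hWM : W = M := by
        apply hmin W hWn
        · rw [Ne, hW, closure_eq_bot_iff]
          intro h1
          have h2 : (y : X) = 1 := h1 ⟨y.2, by rwa [orderOf_coe]⟩
          rw [← orderOf_coe, h2, orderOf_one] at hy1
          exact hs.one_lt.ne hy1
        · rw [hW, closure_le]
          exact fun x hx => hx.1
      have hWN : W ≤ N.map M.subtype := by
        rw [hW, closure_le]
        rintro x ⟨hx, hx1⟩
        obtain ⟨g, hg, hgx⟩ := h.fuse hs hst M hx y.2 hx1 (by rwa [orderOf_coe])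
        have h2 : zpowers (g * (y : X) * g⁻¹) ≤ N.map M.subtype := by
          rw [zpowers_le]
          exact ⟨⟨g, hg⟩ * y * ⟨g, hg⟩⁻¹, hN.conj_mem y hy _, rfl⟩
        exact h2 (hgx ▸ mem_zpowers x)
      rw [eq_top_iff]
      intro x _
      have h2 := hWN (hWM.ge x.2)
      obtain ⟨x', hx', hxx⟩ := h2
      rwa [← Subtype.ext hxx]
  · intro hab
    obtain ⟨x, hx⟩ := exists_prime_orderOf_dvd_card' (G := M) r hrM
    rw [← orderOf_coe] at hx
    obtain ⟨g, hg⟩ := h.exists_conj_mem hr hrt (x := (x : X)) (by rw [hx])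
    have hz1 : g * (x : X) * g⁻¹ ≠ 1 := by
      intro h1
      rw [conj_eq_one_iff.1 h1, orderOf_one] at hx
      exact hr.one_lt.ne hx
    have hzM : g * (x : X) * g⁻¹ ∈ M := hMn.conj_mem _ x.2 g
    have hMT : M ≤ T := fun a ha => h.cent _ hg hz1 a (congrArg Subtype.val (hab ⟨a, ha⟩ ⟨_, hzM⟩))
    apply hTn
    have h1 : T = centralizer (M : Set X) := by
      apply le_antisymm
      · intro a ha
        rw [mem_centralizer_iff]
        intro b hb
        exact h.comm (hMT hb) ha
      · rw [← h.centralizer_eq hg hz1]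
        exact centralizer_le (Set.singleton_subset_iff.2 hzM)
    rw [h1]
    infer_instance

/-- Burnside's transfer theorem for a simple group -/
theorem not_normalizer_le {S : Type*} [Group S] [Finite S] [IsSimpleGroup S] (hna : ¬ ∀ a b : S, a * b = b * a)
    {r : ℕ} [Fact r.Prime] (hrS : r ∣ Nat.card S) (P : Sylow r S) :
    ¬ normalizer (P : Set S) ≤ centralizer (P : Set S) := by
  intro hP
  have h1 := MonoidHom.ker_transferSylow_isComplement' P hP
  rcases IsSimpleGroup.eq_bot_or_eq_top_of_normal (MonoidHom.transferSylow P hP).ker inferInstance with h2 | h2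
  · rw [h2] at h1
    have h3 : (P : Subgroup S) = ⊤ := by simpa using h1
    apply hna
    intro a b
    have ha : a ∈ (P : Subgroup S) := h3 ▸ mem_top a
    have hb : b ∈ (P : Subgroup S) := h3 ▸ mem_top b
    exact (mem_centralizer_iff.1 (hP (le_normalizer hb)) a ha)
  · rw [h2] at h1
    have h3 : (P : Subgroup S) = ⊥ := by simpa using h1
    exact P.ne_bot_of_dvd_card hrS h3

/-- `T ≤ S` -/
theorem Iso.le_simple (h : Iso T) {S : Subgroup X} [hSn : S.Normal] [IsSimpleGroup S]
    (hna : ¬ ∀ a b : S, a * b = b * a) {r : ℕ} (hr : r.Prime) (hrt : r ∣ Nat.card T) (hrS : r ∣ Nat.card S) :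
    T ≤ S := by
  have : Fact r.Prime := ⟨hr⟩
  let P : Sylow r S := default
  have h1 := not_normalizer_le hna hrS P
  rw [SetLike.le_def] at h1
  push Not at h1
  obtain ⟨y, hy, hyc⟩ := h1
  obtain ⟨g, hg⟩ := h.exists_conj_le hr hrt (P.isPGroup'.map S.subtype)
  have hPT : ∀ a ∈ (P : Subgroup S), g * (a : X) * g⁻¹ ∈ T := fun a ha => hg _ ⟨a, ha, rfl⟩
  -- the element `g y g⁻¹`
  set w : X := g * (y : X) * g⁻¹ with hw
  have hwS : w ∈ S := hSn.conj_mem _ y.2 g
  have hPne : (P : Subgroup S) ≠ ⊥ := P.ne_bot_of_dvd_card hrS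
  obtain ⟨z, hz, hz1⟩ := (P : Subgroup S).bot_or_exists_ne_one.resolve_left hPne
  have hzy : y * z * y⁻¹ ∈ (P : Subgroup S) := (mem_normalizer_iff.1 hy z).1 hz
  have hwN : w ∈ normalizer (T : Set X) := by
    apply h.mem_normalizer (hPT z hz)
    · intro h2
      exact hz1 (Subtype.ext (conj_eq_one_iff.1 h2))
    · have h2 := hPT _ hzy
      rw [hw]
      convert h2 using 1
      simp only [coe_mul, coe_inv]
      group
  have hwT : w ∉ T := by
    intro h2
    apply hyc
    rw [mem_centralizer_iff]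
    intro a ha
    have h3 := h.comm (hPT a ha) h2
    apply Subtype.ext
    change (a : X) * y = y * a
    have h4 : g * ((a : X) * y) * g⁻¹ = g * (y * a) * g⁻¹ := by
      calc g * ((a : X) * y) * g⁻¹ = (g * (a : X) * g⁻¹) * (g * (y : X) * g⁻¹) := by group
        _ = (g * (y : X) * g⁻¹) * (g * (a : X) * g⁻¹) := h3
        _ = _ := by group
    exact mul_left_cancel (mul_right_cancel h4)
  let f : T → T := fun a => ⟨a * (w * (a : X)⁻¹ * w⁻¹), T.mul_mem a.2
    ((mem_normalizer_iff.1 hwN _).1 (T.inv_mem a.2))⟩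
  have hf : Function.Injective f := by
    intro a b hab
    by_contra hne
    have h2 : (a : X) * (w * (a : X)⁻¹ * w⁻¹) = b * (w * (b : X)⁻¹ * w⁻¹) := congrArg Subtype.val hab
    apply hwT
    apply h.cent ((b : X)⁻¹ * a) (T.mul_mem (T.inv_mem b.2) a.2)
    · intro h3
      exact hne (Subtype.ext (inv_mul_eq_one.1 h3).symm)
    · have h3 : (a : X) * w * (a : X)⁻¹ = b * w * (b : X)⁻¹ := by
        apply mul_right_cancel (b := w⁻¹)
        simpa only [mul_assoc] using h2
      calc w * ((b : X)⁻¹ * a) = (b : X)⁻¹ * (b * w * (b : X)⁻¹) * a := by group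
        _ = (b : X)⁻¹ * (a * w * (a : X)⁻¹) * a := by rw [h3]
        _ = (b : X)⁻¹ * a * w := by group
  intro b hb
  obtain ⟨a, ha⟩ := (Finite.surjective_of_injective hf) ⟨b, hb⟩
  have h2 : (a : X) * (w * (a : X)⁻¹ * w⁻¹) = b := congrArg Subtype.val ha
  rw [← h2, show (a : X) * (w * (a : X)⁻¹ * w⁻¹) = ((a : X) * w * (a : X)⁻¹) * w⁻¹ by group]
  exact S.mul_mem (hSn.conj_mem _ hwS _) (S.inv_mem hwS)

/-- the Frattini argument -/
theorem Iso.relIndex_eq (h : Iso T) {S : Subgroup X} [hSn : S.Normal] (hTS : T ≤ S) :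
    (normalizer (T : Set X)).relIndex S = (normalizer (T : Set X)).index := by
  set N := normalizer (T : Set X) with hN
  have hsup : N ⊔ S = ⊤ := by
    rw [eq_top_iff]
    intro x _
    have hr := Nat.minFac_prime h.one_lt.ne'
    obtain ⟨z, hz, hzr, hz1⟩ := h.exists_prime hr (Nat.minFac_dvd _)
    obtain ⟨g, hg, hgx⟩ := h.fuse hr (Nat.minFac_dvd _) S (hSn.conj_mem z (hTS hz) x) (hTS hz)
      ((orderOf_injective (MulAut.conj x).toMonoidHom (MulAut.conj x).injective z).trans hzr) hzr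
    have h1 : x * z * x⁻¹ ∈ zpowers (g * z * g⁻¹) := hgx ▸ mem_zpowers _
    have h2 : (g⁻¹ * x) * z * (g⁻¹ * x)⁻¹ ∈ T := by
      obtain ⟨i, hi⟩ := mem_zpowers_iff.1 h1
      rw [conj_zpow] at hi
      have h3 : (g⁻¹ * x) * z * (g⁻¹ * x)⁻¹ = z ^ i := by
        calc (g⁻¹ * x) * z * (g⁻¹ * x)⁻¹ = g⁻¹ * (x * z * x⁻¹) * g := by group
          _ = g⁻¹ * (g * z ^ i * g⁻¹) * g := by rw [hi]
          _ = z ^ i := by group
      rw [h3]
      exact T.zpow_mem hz i
    have h3 : g⁻¹ * x ∈ N := h.mem_normalizer hz hz1 h2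
    rw [show x = g * (g⁻¹ * x) by group]
    exact (N ⊔ S).mul_mem (le_sup_right (a := N) hg) (le_sup_left (b := S) h3)
  have h1 : S.index = S.relIndex N := by
    rw [← relIndex_sup_right (H := N), hsup, relIndex_top_right]
  have h2 : Nat.card S * S.index = Nat.card N * N.index := by rw [card_mul_index, card_mul_index]
  have h3 : Nat.card (S ⊓ N : Subgroup X) * S.relIndex N = Nat.card N := by
    have := card_mul_index (S.subgroupOf N)
    rw [← inf_subgroupOf_right, Nat.card_congr (subgroupOfEquivOfLe (inf_le_right : S ⊓ N ≤ N)).toEquiv] at this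
    rw [← inf_relIndex_right]
    exact this
  have h4 : Nat.card (S ⊓ N : Subgroup X) * N.relIndex S = Nat.card S := by
    have := card_mul_index (N.subgroupOf S)
    rw [← inf_subgroupOf_left, Nat.card_congr (subgroupOfEquivOfLe (inf_le_left : S ⊓ N ≤ S)).toEquiv] at this
    rw [← inf_relIndex_left]
    exact this
  rw [← h3, ← h4, h1] at h2
  have h5 : 0 < Nat.card (S ⊓ N : Subgroup X) * S.relIndex N := by
    rw [h3]
    exact Nat.card_pos
  apply Nat.eq_of_mul_eq_mul_left h5
  rw [← h2]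
  ring

end Cfsg.Agent.H702.TF
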