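import Mathlib
import Cfsg.Agent.H702.AltSmall
import Cfsg.Agent.OrdDiv.Main
import Cfsg.Agent.S0144
import Cfsg.Agent.Omega.Quasithin.Row.Psl
import Cfsg.Agent.Omega.Quasithin.Row.Psp
import Cfsg.Agent.Omega.Quasithin.Row.Psu
import Cfsg.Agent.Omega.Quasithin.Row.OmegaOdd
import Cfsg.Agent.Omega.Quasithin.Row.OmegaPlus
import Cfsg.Agent.Omega.Quasithin.Row.OmegaMinus
import Cfsg.Agent.Omega.Quasithin.Row.Chev

/-!
# No simple group carries the 2-Frobenius numerical data (helper702)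
-/

set_option autoImplicit false

namespace Cfsg.Agent.H702.TF

open Cfsg Cfsg.Agent.Omega.Quasithin

universe u

variable {S : Type u} [Group S] [Finite S]

theorem field_data (F : Type) [Field F] [Fintype F] :
    ∃ p f : ℕ, p.Prime ∧ 0 < f ∧ CharP F p ∧ Fintype.card F = p ^ f := by
  obtain ⟨p, hc⟩ := CharP.exists F
  obtain ⟨f, hp, hf⟩ := FiniteField.card F p
  exact ⟨p, f, hp, f.2, hc, hf⟩

theorem root_data {p f q e : ℕ} (hp : p.Prime) (hf : 0 < f) (he : 0 < e) (h : p ^ f = q ^ e) :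
    ∃ g, 0 < g ∧ q = p ^ g := by
  have h1 : q ∣ p ^ f := by
    rw [h]
    exact dvd_pow_self q he.ne'
  obtain ⟨g, -, hg⟩ := (Nat.dvd_prime_pow hp).1 h1
  refine ⟨g, Nat.pos_of_ne_zero ?_, hg⟩
  rintro rfl
  rw [hg, pow_zero, one_pow] at h
  have := Nat.one_lt_pow hf.ne' hp.one_lt
  omega

theorem four_le (hna : ¬ ∀ a b : S, a * b = b * a) [IsSimpleGroup S] (h : Nat.card S = 12) : False := by
  have h1 := S0144.result (G := S) 2 3 2 1 Nat.prime_two Nat.prime_three (by rw [h]; norm_num)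
  have h2 := (IsSimpleGroup.comm_iff_isSolvable (G := S)).2 h1
  exact hna h2

omit [Finite S] in
/-- `PSL` -/
theorem psl_card {F : Type} [Field F] [Fintype F] {n : ℕ} (hn : 2 ≤ n)
    (e : S ≃* Matrix.ProjectiveSpecialLinearGroup (Fin n) F) :
    (Nat.gcd n (Fintype.card F - 1) * (Fintype.card F - 1)) * Nat.card S =
      ∏ i ∈ Finset.range n, (Fintype.card F ^ n - Fintype.card F ^ i) := by
  have h := S0243.result (F := F) rfl n hn
  rw [Fin.prod_univ_eq_prod_range (fun i => Fintype.card F ^ n - Fintype.card F ^ i) n] at h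
  rw [mul_assoc, Nat.card_congr e.toEquiv]
  exact h

omit [Finite S] in
/-- `PSU` -/
theorem psu_card {F : Type} [Field F] [Fintype F] {n q : ℕ} (hF : Fintype.card F = q ^ 2) (hn : 3 ≤ n)
    (e : S ≃* PSU n F q) :
    (Nat.gcd n (q + 1) * (q + 1)) * Nat.card S = q ^ (n * (n - 1) / 2) * ∏ i ∈ Finset.range n, uf q i := by
  have h := S0280.result hF n (by omega)
  rw [mul_assoc, Nat.card_congr e.toEquiv, h]
  congr 1
  apply Finset.prod_congr rfl
  intro i _
  unfold uf
  by_cases h : Even i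
  · rw [if_pos h, if_pos (Nat.even_iff.1 h)]
  · rw [if_neg h, if_neg]
    rwa [← Nat.even_iff]

/-- the `Small` groups -/
theorem not_small (hna : ¬ ∀ a b : S, a * b = b * a) [IsSimpleGroup S] {t c c' k p : ℕ}
    (h : Bad (Nat.card S) t c c' k) (hp : p.Prime) (hp2 : p ≠ 2) (hk : k.factorization p = 0)
    (hs : Small p S) : False := by
  have hp1 := hp.two_le
  have hpo : Odd p := hp.odd_of_ne_two hp2
  obtain ⟨F, _, _, ⟨hF, ⟨e⟩⟩ | ⟨hF, ⟨e⟩⟩ | ⟨hF, ⟨e⟩⟩⟩ := hs
  · have h1 := psl_card le_rfl e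
    have h2 : ∃ f, 0 < f ∧ f ≤ 2 ∧ Fintype.card F = p ^ f := by
      rcases hF with hF | hF
      · exact ⟨1, one_pos, by norm_num, by rw [hF, pow_one]⟩
      · exact ⟨2, by norm_num, le_rfl, hF⟩
    obtain ⟨f, hf, hf2, hFf⟩ := h2
    generalize Fintype.card F = q at h1 hFf
    have hq3 : 3 ≤ q := by
      rw [hFf]
      have : p ^ 1 ≤ p ^ f := Nat.pow_le_pow_right hp.pos hf
      rw [pow_one] at this
      omega
    have hqo : Odd q := by
      rw [hFf]
      exact hpo.pow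
    have hn : 2 * Nat.card S = q * (q ^ 2 - 1) := by
      have h3 : Nat.gcd 2 (q - 1) = 2 := by
        obtain ⟨m, rfl⟩ := hqo
        rw [Nat.add_sub_cancel]
        exact Nat.gcd_eq_left (Dvd.intro _ rfl)
      rw [h3, Finset.prod_range_succ, Finset.prod_range_one, pow_zero, pow_one] at h1
      have h4 : q ^ 2 - q = q * (q - 1) := by
        rw [Nat.mul_sub, mul_one, sq]
      rw [h4] at h1
      have h5 : (q - 1) * (2 * Nat.card S) = (q - 1) * (q * (q ^ 2 - 1)) := by
        linarith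
      exact Nat.eq_of_mul_eq_mul_left (by omega) h5
    rcases Nat.lt_or_ge q 4 with hq4 | hq4
    · obtain rfl : q = 3 := by omega
      exact four_le hna (by omega)
    · exact h.not_l2 hp hp2 hk hf hf2 hFf hq4 hn
  · have h1 := psl_card (by norm_num) e
    rw [hF] at h1
    refine h.not_l3 hp hp2 hk (Nat.gcd_dvd_right 3 (p - 1)) ?_
    simp only [Finset.prod_range_succ, Finset.prod_range_zero, pow_zero, pow_one, one_mul] at h1
    have h4 : p ^ 3 - p = p * (p ^ 2 - 1) := by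
      rw [Nat.mul_sub, mul_one]
      ring_nf
    have h5 : p ^ 3 - p ^ 2 = p ^ 2 * (p - 1) := by
      rw [Nat.mul_sub, mul_one]
      ring_nf
    rw [h4, h5] at h1
    have h6 : (p - 1) * (Nat.gcd 3 (p - 1) * Nat.card S) = (p - 1) * (p ^ 3 * ((p ^ 3 - 1) * (p ^ 2 - 1))) := by
      calc _ = Nat.gcd 3 (p - 1) * (p - 1) * Nat.card S := by ring
        _ = _ := h1
        _ = _ := by ring
    exact Nat.eq_of_mul_eq_mul_left (by omega) h6
  · have h1 := psu_card hF le_rfl e
    refine h.not_u3 hp hp2 hk (Nat.gcd_dvd_right 3 (p + 1)) ?_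
    have h7 : ∏ i ∈ Finset.range 3, uf p i = (p + 1) * (p ^ 2 - 1) * (p ^ 3 + 1) := by
      simp [Finset.prod_range_succ, uf]
    rw [h7, show 3 * (3 - 1) / 2 = 3 by norm_num] at h1
    have h6 : (p + 1) * (Nat.gcd 3 (p + 1) * Nat.card S) = (p + 1) * (p ^ 3 * ((p ^ 3 + 1) * (p ^ 2 - 1))) := by
      calc _ = Nat.gcd 3 (p + 1) * (p + 1) * Nat.card S := by ring
        _ = _ := h1
        _ = _ := by ring
    exact Nat.eq_of_mul_eq_mul_left (by omega) h6

/-- the Lie case -/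
theorem lie_case (hna : ¬ ∀ a b : S, a * b = b * a) [IsSimpleGroup S] {t c c' k p : ℕ}
    (h : Bad (Nat.card S) t c c' k) (hp : p.Prime)
    (hr : ∀ p : ℕ, p.Prime → p ≠ 2 → k.factorization p = 0 → PRankLE p 2 S)
    (hrow : p ≠ 2 → PRankLE p 2 S → Small p S) (hkey : ∀ M, Key (Nat.card S) p M → False) : False := by
  by_cases hk : k.factorization p = 0
  · have hp2 : p ≠ 2 := by
      rintro rfl
      exact h.h2 hk
    exact not_small hna h hp hp2 hk (hrow hp2 (hr p hp hp2 hk))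
  · exact hkey _ (h.key hp hk)

/-- **No known simple group carries the data.** -/
theorem elim (T : OrdDiv.OrderTable.{u}) [IsSimpleGroup S] (hS : IsKnownSimple' S)
    (hna : ¬ ∀ a b : S, a * b = b * a) {t c c' k : ℕ} (h : Bad (Nat.card S) t c c' k)
    (hr : ∀ p : ℕ, p.Prime → p ≠ 2 → k.factorization p = 0 → PRankLE p 2 S) : False := by
  have hn0 := h.hn0
  have K2 : Key (Nat.card S) 2 (k.factorization 2) := h.key Nat.prime_two h.h2
  have key : ∀ (g : OrdDiv.Grp), g ∈ OrdDiv.spor.map (fun x => x.1) → OrdDiv.Real g S → False := fun g hg hr => by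
    obtain ⟨x, hx, rfl⟩ := List.mem_map.1 hg
    rw [T.spor S x hx hr] at K2
    exact not_spor hx K2
  rcases hS with hS | hS | hS | hS | hS | hS | hS | hS | hS | hS
  · have : Fact (Nat.card S).Prime := ⟨hS⟩
    have : IsCyclic S := isCyclic_of_prime_card (p := Nat.card S) rfl
    exact hna fun a b => (IsCyclic.isMulCommutative (α := S)).is_comm.comm a b
  · obtain ⟨n, hn, ⟨e⟩⟩ := hS
    exact not_alt hn (OrdDiv.alt_card hn e) h
  · obtain ⟨F, _, _, n, hn, hn2, ⟨e⟩⟩ := hS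
    obtain ⟨p, f, hp, hf, hc, hF⟩ := field_data F
    refine lie_case hna h hp hr (fun h1 h2 => row_psl p hp h1 S ⟨F, inferInstance, inferInstance, hc, n, hn, hn2, ⟨e⟩⟩ h2) ?_
    intro M K
    have h1 := psl_card hn e
    rw [hF] at h1
    exact not_psl hp hf hn0 hn h1 K
  · obtain ⟨F, _, _, m, hm, hm2, ⟨e⟩⟩ := hS
    obtain ⟨p, f, hp, hf, hc, hF⟩ := field_data F
    refine lie_case hna h hp hr (fun h1 h2 => row_psp p hp h1 S ⟨F, inferInstance, inferInstance, hc, m, hm, hm2, ⟨e⟩⟩ h2) ?_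
    intro M K
    have h1 := S0245.result (F := F) rfl m
    have h2 := S0246.result (F := F) rfl m (by omega)
    have h3 := Subgroup.card_eq_card_quotient_mul_card_subgroup
      (Subgroup.center (Matrix.symplecticGroup (Fin m) F))
    rw [h1, h2] at h3
    rw [hF] at h3 hm2
    refine not_psp (d := Nat.gcd 2 (p ^ f - 1)) hp hf hn0 hm hm2 (Nat.gcd_dvd_right _ _) (Nat.gcd_dvd_left _ _) ?_ K
    rw [Nat.card_congr e.toEquiv, mul_comm]
    exact h3.symm
  · obtain ⟨F, _, _, n, q, hFq, hn, hn2, ⟨e⟩⟩ := hS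
    obtain ⟨p, f, hp, hf, hc, hF⟩ := field_data F
    obtain ⟨g, hg, rfl⟩ := root_data hp hf (by norm_num) (hF.symm.trans hFq)
    refine lie_case hna h hp hr (fun h1 h2 => row_psu p hp h1 S ⟨F, inferInstance, inferInstance, hc, n, _, hFq, hn, hn2, ⟨e⟩⟩ h2) ?_
    intro M K
    exact not_psu hp hg hn0 hn (fun h1 h2 => hn2 ⟨h1, h2⟩) (psu_card hFq hn e) K
  · obtain ⟨F, _, _, m, hm, ho, ⟨e⟩⟩ := hS
    obtain ⟨p, f, hp, hf, hc, hF⟩ := field_data F
    refine lie_case hna h hp hr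
      (fun h1 h2 => Row.OmegaOdd.row_omegaOdd p hp h1 S ⟨F, inferInstance, inferInstance, hc, m, hm, ho, ⟨e⟩⟩ h2) ?_
    intro M K
    have h1 := S0292.result (F := F) rfl ho m hm
    rw [hF] at h1 ho
    refine not_psp (m := m) (d := 2) hp hf hn0 (by omega) (by omega) ?_ dvd_rfl ?_ K
    · obtain ⟨j, hj⟩ := ho
      rw [hj, Nat.add_sub_cancel]
      exact Dvd.intro _ rfl
    · rw [Nat.card_congr e.toEquiv]
      exact h1
  · obtain ⟨F, _, _, m, hm, ⟨e⟩⟩ := hS
    obtain ⟨p, f, hp, hf, hc, hF⟩ := field_data F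
    refine lie_case hna h hp hr
      (fun h1 h2 => Row.OmegaPlus.row_omegaPlus p hp h1 S ⟨F, inferInstance, inferInstance, hc, m, hm, ⟨e⟩⟩ h2) ?_
    intro M K
    have h1 := S0293.result (F := F) rfl m hm
    rw [hF] at h1
    refine not_oplus (d := Nat.gcd 4 ((p ^ f) ^ m - 1)) hp hf hn0 hm (Nat.gcd_dvd_left _ _) ?_ ?_ K
    · rintro rfl
      have h2 : Nat.Coprime (2 ^ 2) ((2 ^ f) ^ m - 1) := by
        apply Nat.Coprime.pow_left
        rw [Nat.prime_two.coprime_iff_not_dvd, ← pow_mul]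
        exact not_dvd_sub Nat.prime_two (Nat.mul_pos hf (by omega))
      exact h2
    · rw [Nat.card_congr e.toEquiv, ← mul_assoc ((p ^ f) ^ (m * (m - 1)))]
      exact h1
  · obtain ⟨F, _, _, m, a, b, hm, hab, ⟨e⟩⟩ := hS
    obtain ⟨p, f, hp, hf, hc, hF⟩ := field_data F
    refine lie_case hna h hp hr
      (fun h1 h2 => Row.OmegaMinus.row_omegaMinus p hp h1 S ⟨F, inferInstance, inferInstance, hc, m, a, b, hm, hab, ⟨e⟩⟩ h2) ?_
    intro M K
    have h1 := S0294.result (F := F) rfl m hm a b hab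
    rw [hF] at h1
    refine not_ominus (d := Nat.gcd 4 ((p ^ f) ^ m + 1)) hp hf hn0 hm (Nat.gcd_dvd_left _ _) ?_ ?_ K
    · rintro rfl
      have h2 : Nat.Coprime (2 ^ 2) ((2 ^ f) ^ m + 1) := by
        apply Nat.Coprime.pow_left
        rw [Nat.prime_two.coprime_iff_not_dvd, ← pow_mul]
        exact not_dvd_add Nat.prime_two (Nat.mul_pos hf (by omega))
      exact h2
    · rw [Nat.card_congr e.toEquiv, ← mul_assoc ((p ^ f) ^ (m * (m - 1)))]
      exact h1
  · rcases hS with hS | hS | hS | hS | hS | hS | hS | hS | hS | hS | hS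
    · obtain ⟨F, _, _, hq, ⟨e⟩⟩ := hS
      obtain ⟨p, f, hp, hf, hc, hF⟩ := field_data F
      refine lie_case hna h hp hr
        (fun h1 h2 => Row.Chev.row_chev p hp h1 S ⟨F, inferInstance, inferInstance, hc, Or.inl ⟨hq, ⟨e⟩⟩⟩ h2) ?_
      intro M K
      have h1 := T.g2 F
      rw [← Nat.card_congr e.toEquiv, hF] at h1
      exact not_g2 hp hf hn0 (hF ▸ hq) (by rw [h1]; ring) K K2
    · obtain ⟨F, _, _, ⟨e⟩⟩ := hS
      obtain ⟨p, f, hp, hf, hc, hF⟩ := field_data F
      refine lie_case hna h hp hr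
        (fun h1 h2 => Row.Chev.row_chev p hp h1 S ⟨F, inferInstance, inferInstance, hc, Or.inr (Or.inl ⟨e⟩)⟩ h2) ?_
      intro M K
      have h1 := T.f4 F _ hF
      rw [← Nat.card_congr e.toEquiv] at h1
      exact not_f4 hp hf hn0 (by rw [h1]; ring) K
    · obtain ⟨F, _, _, ⟨e⟩⟩ := hS
      obtain ⟨p, f, hp, hf, hc, hF⟩ := field_data F
      refine lie_case hna h hp hr
        (fun h1 h2 => Row.Chev.row_chev p hp h1 S ⟨F, inferInstance, inferInstance, hc, Or.inr (Or.inr (Or.inl ⟨e⟩))⟩ h2) ?_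
      intro M K
      have h1 := T.e6 F _ hF
      rw [← Nat.card_congr e.toEquiv] at h1
      exact not_e6 hp hf hn0 (by rw [h1]; ring) K
    · obtain ⟨F, _, _, ⟨e⟩⟩ := hS
      obtain ⟨p, f, hp, hf, hc, hF⟩ := field_data F
      refine lie_case hna h hp hr
        (fun h1 h2 => Row.Chev.row_chev p hp h1 S ⟨F, inferInstance, inferInstance, hc, Or.inr (Or.inr (Or.inr (Or.inl ⟨e⟩)))⟩ h2) ?_
      intro M K
      have h1 := T.e7 F _ hF
      rw [← Nat.card_congr e.toEquiv] at h1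
      exact not_e7 hp hf hn0 (by rw [h1]; ring) K
    · obtain ⟨F, _, _, ⟨e⟩⟩ := hS
      obtain ⟨p, f, hp, hf, hc, hF⟩ := field_data F
      refine lie_case hna h hp hr
        (fun h1 h2 => Row.Chev.row_chev p hp h1 S ⟨F, inferInstance, inferInstance, hc, Or.inr (Or.inr (Or.inr (Or.inr ⟨e⟩)))⟩ h2) ?_
      intro M K
      have h1 := T.e8 F _ hF
      rw [← Nat.card_congr e.toEquiv] at h1
      exact not_e8 hp hf hn0 (by rw [h1]; ring) K
    · obtain ⟨F, _, _, q, hq, hFq, ⟨e⟩⟩ := hS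
      obtain ⟨p, f, hp, hf, hc, hF⟩ := field_data F
      obtain ⟨g, hg, rfl⟩ := root_data hp hf (by norm_num) (hF.symm.trans hFq)
      refine lie_case hna h hp hr
        (fun h1 h2 => Row.Chev.row_twisted p hp h1 S ⟨F, inferInstance, inferInstance, hc, _, hq, Or.inl ⟨hFq, ⟨e⟩⟩⟩ h2) ?_
      intro M K
      have h1 := T.te6 F _ hq hFq
      rw [← Nat.card_congr e.toEquiv] at h1
      exact not_te6 hp hg hn0 (by rw [h1]; ring) K
    · obtain ⟨F, _, _, q, hq, hFq, ⟨e⟩⟩ := hS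
      obtain ⟨p, f, hp, hf, hc, hF⟩ := field_data F
      obtain ⟨g, hg, rfl⟩ := root_data hp hf (by norm_num) (hF.symm.trans hFq)
      refine lie_case hna h hp hr
        (fun h1 h2 => Row.Chev.row_twisted p hp h1 S ⟨F, inferInstance, inferInstance, hc, _, hq, Or.inr ⟨hFq, ⟨e⟩⟩⟩ h2) ?_
      intro M K
      have h1 := T.td4 F _ hq hFq
      rw [← Nat.card_congr e.toEquiv] at h1
      exact not_td4 hp hg hn0 (by rw [h1]; ring) K
    · obtain ⟨F, _, _, m, hm, hF, ⟨e⟩⟩ := hS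
      refine lie_case hna h Nat.prime_two hr (fun h1 => absurd rfl h1) ?_
      intro M K
      have h1 := T.sz F _ hm hF
      rw [← Nat.card_congr e.toEquiv] at h1
      exact not_sz (f := 2 * m + 1) Nat.prime_two (Nat.succ_pos _) hn0 (by rw [h1]; ring) K
    · obtain ⟨F, _, _, m, hm, hF, ⟨e⟩⟩ := hS
      refine lie_case hna h Nat.prime_three hr
        (fun h1 h2 => Row.Chev.row_ree 3 Nat.prime_three h1 S ⟨rfl, F, inferInstance, inferInstance, m, hm, hF, ⟨e⟩⟩ h2) ?_
      intro M K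
      have h1 := T.ree F _ hm hF
      rw [← Nat.card_congr e.toEquiv] at h1
      exact not_ree (f := 2 * m + 1) Nat.prime_three (Nat.succ_pos _) hn0 (by norm_num) (by rw [h1]; ring) K
    · obtain ⟨F, _, _, m, hm, hF, ⟨e⟩⟩ := hS
      refine lie_case hna h Nat.prime_two hr (fun h1 => absurd rfl h1) ?_
      intro M K
      have h1 := T.tf4 F _ hm hF
      rw [← Nat.card_congr e.toEquiv] at h1
      exact not_tf4 (f := 2 * m + 1) Nat.prime_two (Nat.succ_pos _) hn0 (by rw [h1]; ring) K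
    · exact key .tits (by simp [OrdDiv.spor]) hS
  · rcases hS with hS | hS | hS | hS | hS | hS | hS | hS | hS | hS | hS | hS | hS | hS | hS | hS | hS | hS | hS | hS |
      hS | hS | hS | hS | hS | hS
    · exact key .m11 (by simp [OrdDiv.spor]) hS
    · exact key .m12 (by simp [OrdDiv.spor]) hS
    · exact key .m22 (by simp [OrdDiv.spor]) hS
    · exact key .m23 (by simp [OrdDiv.spor]) hS
    · exact key .m24 (by simp [OrdDiv.spor]) hS
    · exact key .j1 (by simp [OrdDiv.spor]) hS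
    · exact key .j2 (by simp [OrdDiv.spor]) hS
    · exact key .j3 (by simp [OrdDiv.spor]) hS
    · exact key .j4 (by simp [OrdDiv.spor]) hS
    · exact key .co1 (by simp [OrdDiv.spor]) hS
    · exact key .co2 (by simp [OrdDiv.spor]) hS
    · exact key .co3 (by simp [OrdDiv.spor]) hS
    · exact key .mcl (by simp [OrdDiv.spor]) hS
    · exact key .hs (by simp [OrdDiv.spor]) hS
    · exact key .suz (by simp [OrdDiv.spor]) hS
    · exact key .he (by simp [OrdDiv.spor]) hS
    · exact key .ru (by simp [OrdDiv.spor]) hS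
    · exact key .on (by simp [OrdDiv.spor]) hS
    · exact key .ly (by simp [OrdDiv.spor]) hS
    · exact key .fi22 (by simp [OrdDiv.spor]) hS
    · exact key .fi23 (by simp [OrdDiv.spor]) hS
    · exact key .fi24 (by simp [OrdDiv.spor]) hS
    · exact key .hn (by simp [OrdDiv.spor]) hS
    · exact key .th (by simp [OrdDiv.spor]) hS
    · exact key .b (by simp [OrdDiv.spor]) hS
    · exact key .m (by simp [OrdDiv.spor]) hS

end Cfsg.Agent.H702.TF
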