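import Mathlib

/-!
S4183 from S3578: the ratio nu_p(H) / nu_p(G) is the proportion of points of G / H fixed by a Sylow
p-subgroup contained in H.
-/

set_option autoImplicit false

namespace Cfsg.Agent.H702.NuFpr

universe u

/-- the statement of S3578 in one universe -/
def Fpr : Prop :=
  ∀ {G Ω : Type u} [Group G] [Finite G] [MulAction G Ω] [FaithfulSMul G Ω] [Finite Ω]
    (_ : MulAction.IsPretransitive G Ω) (p : ℕ) [Fact p.Prime] (_ : p ∣ Nat.card G)
    (_ : Subgroup.closure {g : G | ∃ k : ℕ, orderOf g = p ^ k} = ⊤)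
    (_ : ∀ (N : Subgroup G) [N.Normal] (m : ℕ), p + 1 < m → m < p ^ 2 - p →
      ¬ Nonempty (G ⧸ N ≃* ↥(alternatingGroup (Fin m))))
    (_ : ∀ (N : Subgroup G) [N.Normal] (k : ℕ), p + 1 = 2 ^ k →
      ¬ Nonempty (G ⧸ N ≃* Matrix.SpecialLinearGroup (Fin 2) (GaloisField 2 k))),
    ∃ x : G, (∃ k : ℕ, orderOf x = p ^ k) ∧ (p + 1) * Nat.card (MulAction.fixedBy Ω x) ≤ Nat.card Ω

variable {G : Type u} [Group G] [Finite G] {p : ℕ} [Fact p.Prime]

/-- points of `G / H` fixed by the subgroup `Q` -/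
def Fx (H Q : Subgroup G) : Set (G ⧸ H) := {w | ∀ g ∈ Q, g • w = w}

theorem card_fx_smul (H : Subgroup G) (Q : Sylow p G) (g : G) :
    Nat.card (Fx H ((g • Q : Sylow p G) : Subgroup G)) = Nat.card (Fx H (Q : Subgroup G)) := by
  refine Nat.card_congr ⟨fun w => ⟨g⁻¹ • w.1, ?_⟩, fun w => ⟨g • w.1, ?_⟩, ?_, ?_⟩
  · intro h hh
    have := w.2 (g * h * g⁻¹) (by
      rw [Sylow.coe_subgroup_smul]
      exact ⟨h, hh, by simp [MulAut.smul_def]⟩)
    rw [eq_inv_smul_iff, smul_smul, smul_smul, this]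
  · intro k hk
    rw [Sylow.coe_subgroup_smul] at hk
    obtain ⟨h, hh, rfl⟩ := hk
    have := w.2 h hh
    simp only [MulAut.smul_def, MulDistribMulAction.toMonoidEnd_apply, MulDistribMulAction.toMonoidHom_apply,
      MulAut.conj_apply]
    rw [smul_smul, inv_mul_cancel_right, mul_smul, this]
  · intro w; simp
  · intro w; simp

theorem card_eq_of_le {K : Subgroup G} {P : Sylow p G} (hP : (P : Subgroup G) ≤ K)
    (Q : Sylow p ↥K) : Nat.card ((Q : Subgroup ↥K).map K.subtype) = Nat.card (P : Subgroup G) := by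
  rw [Subgroup.card_map_of_injective K.subtype_injective, Sylow.card_eq_multiplicity,
    ← Sylow.card_eq_multiplicity (P.subtype hP), Sylow.coe_subtype]
  exact Nat.card_congr (Subgroup.subgroupOfEquivOfLe hP).toEquiv

/-- the Sylow subgroups of `G` contained in a subgroup `K` containing one of them -/
theorem card_sylow_le (K : Subgroup G) (P : Sylow p G) (hP : (P : Subgroup G) ≤ K) :
    Nat.card {Q : Sylow p G // (Q : Subgroup G) ≤ K} = Nat.card (Sylow p ↥K) := by
  classical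
  refine Nat.card_congr ⟨fun Q => Q.1.subtype Q.2, fun Q => ⟨Sylow.ofCard ((Q : Subgroup ↥K).map K.subtype)
    (by rw [card_eq_of_le hP, Sylow.card_eq_multiplicity]), ?_⟩, ?_, ?_⟩
  · change (Q : Subgroup ↥K).map K.subtype ≤ K
    exact Subgroup.map_subtype_le _
  · rintro ⟨Q, hQ⟩
    apply Subtype.ext
    apply Sylow.ext
    change (((Q.subtype hQ : Sylow p ↥K) : Subgroup ↥K).map K.subtype) = (Q : Subgroup G)
    rw [Sylow.coe_subtype, Subgroup.subgroupOf_map_subtype, inf_of_le_left hQ]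
  · intro Q
    apply Sylow.ext
    rw [Sylow.coe_subtype]
    change ((Q : Subgroup ↥K).map K.subtype).subgroupOf K = _
    rw [Subgroup.subgroupOf, Subgroup.comap_map_eq_self_of_injective K.subtype_injective]

theorem mem_fx_iff (H Q : Subgroup G) (g : G) :
    (QuotientGroup.mk g : G ⧸ H) ∈ Fx H Q ↔ Q ≤ H.map (MulAut.conj g).toMonoidHom := by
  constructor
  · intro h x hx
    have := h x hx
    rw [show (x • (QuotientGroup.mk g : G ⧸ H)) = QuotientGroup.mk (x * g) from rfl, QuotientGroup.eq] at this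
    refine ⟨g⁻¹ * x * g, ?_, by simp [mul_assoc]⟩
    have h2 := H.inv_mem this
    simpa [mul_assoc] using h2
  · intro h x hx
    obtain ⟨y, hy, rfl⟩ := h hx
    change QuotientGroup.mk (_ * g) = _
    rw [QuotientGroup.eq]
    simpa [mul_assoc] using hy

theorem card_congr_mulEquiv {K L : Type*} [Group K] [Group L] [Finite K] (e : K ≃* L) :
    Nat.card (Sylow p K) = Nat.card (Sylow p L) := by
  have : Finite L := Finite.of_equiv K e.toEquiv
  refine Nat.card_congr ⟨fun Q => Q.mapSurjective (f := e.toMonoidHom) e.surjective,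
    fun Q => Q.mapSurjective (f := e.symm.toMonoidHom) e.symm.surjective, ?_, ?_⟩
  · intro Q
    apply Sylow.ext
    simp [Sylow.coe_mapSurjective, Subgroup.map_map]
  · intro Q
    apply Sylow.ext
    simp [Sylow.coe_mapSurjective, Subgroup.map_map]

theorem count (H : Subgroup G) (P : Sylow p G) (hP : (P : Subgroup G) ≤ H) :
    Nat.card (Sylow p G) * Nat.card (Fx H (P : Subgroup G)) =
      Nat.card (G ⧸ H) * Nat.card (Sylow p ↥H) := by
  classical
  have h1 : Nat.card (Σ Q : Sylow p G, Fx H (Q : Subgroup G)) =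
      Nat.card (Sylow p G) * Nat.card (Fx H (P : Subgroup G)) := by
    have hh : ∀ Q : Sylow p G, Nat.card (Fx H (Q : Subgroup G)) = Nat.card (Fx H (P : Subgroup G)) := by
      intro Q
      obtain ⟨g, rfl⟩ := MulAction.exists_smul_eq G P Q
      exact card_fx_smul H P g
    let _ := Fintype.ofFinite (Sylow p G)
    rw [Nat.card_sigma]
    simp_rw [hh]
    simp [Nat.card_eq_fintype_card]
  have h2 : Nat.card (Σ w : G ⧸ H, {Q : Sylow p G // w ∈ Fx H (Q : Subgroup G)}) =
      Nat.card (G ⧸ H) * Nat.card (Sylow p ↥H) := by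
    have hh : ∀ w : G ⧸ H, Nat.card {Q : Sylow p G // w ∈ Fx H (Q : Subgroup G)} = Nat.card (Sylow p ↥H) := by
      intro w
      obtain ⟨g, rfl⟩ := QuotientGroup.mk_surjective w
      simp_rw [mem_fx_iff]
      have hPg : ((g • P : Sylow p G) : Subgroup G) ≤ H.map (MulAut.conj g).toMonoidHom := by
        rw [Sylow.coe_subgroup_smul]
        rintro _ ⟨x, hx, rfl⟩
        exact ⟨x, hP hx, by simp [MulAut.smul_def]⟩
      rw [card_sylow_le _ _ hPg]
      let e : ↥H ≃* ↥(H.map (MulAut.conj g).toMonoidHom) :=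
        H.equivMapOfInjective _ (MulAut.conj g).injective
      exact (card_congr_mulEquiv e).symm
    let _ := Fintype.ofFinite (G ⧸ H)
    rw [Nat.card_sigma]
    simp_rw [hh]
    simp [Nat.card_eq_fintype_card]
  rw [← h1, ← h2]
  exact Nat.card_congr ⟨fun x => ⟨x.2.1, x.1, x.2.2⟩, fun x => ⟨x.2.1, x.1, x.2.2⟩, fun _ => rfl, fun _ => rfl⟩

theorem main (hyp : Fpr.{u}) (hgen : Subgroup.closure {g : G | ∃ k : ℕ, orderOf g = p ^ k} = ⊤)
    (hA : ∀ (N : Subgroup G) [N.Normal] (m : ℕ), p + 1 < m → m < p ^ 2 - p →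
      ¬ Nonempty (G ⧸ N ≃* ↥(alternatingGroup (Fin m))))
    (hS : ∀ (N : Subgroup G) [N.Normal] (k : ℕ), p + 1 = 2 ^ k →
      ¬ Nonempty (G ⧸ N ≃* Matrix.SpecialLinearGroup (Fin 2) (GaloisField 2 k)))
    (H : Subgroup G) (hH : H ≠ ⊤) (P : Sylow p G) (hP : (P : Subgroup G) ≤ H) :
    (p + 1) * Nat.card (Sylow p ↥H) ≤ Nat.card (Sylow p G) := by
  classical
  -- it is enough to bound the number of fixed points of `P`
  suffices hfx : (p + 1) * Nat.card (Fx H (P : Subgroup G)) ≤ Nat.card (G ⧸ H) by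
    have hc := count H P hP
    have hpos : 0 < Nat.card (G ⧸ H) := Nat.card_pos
    apply Nat.le_of_mul_le_mul_left _ hpos
    calc Nat.card (G ⧸ H) * ((p + 1) * Nat.card (Sylow p ↥H))
        = (p + 1) * (Nat.card (G ⧸ H) * Nat.card (Sylow p ↥H)) := by ring
      _ = Nat.card (Sylow p G) * ((p + 1) * Nat.card (Fx H (P : Subgroup G))) := by rw [← hc]; ring
      _ ≤ Nat.card (Sylow p G) * Nat.card (G ⧸ H) := Nat.mul_le_mul_left _ hfx
      _ = Nat.card (G ⧸ H) * Nat.card (Sylow p G) := by ring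
  -- the faithful quotient
  let φ := MulAction.toPermHom G (G ⧸ H)
  let Gb := φ.range
  let f : G →* Gb := φ.rangeRestrict
  have hf : Function.Surjective f := φ.rangeRestrict_surjective
  have hact : ∀ (g : G) (w : G ⧸ H), (f g) • w = g • w := fun g w => rfl
  have htr : MulAction.IsPretransitive Gb (G ⧸ H) := by
    constructor
    intro x y
    obtain ⟨g, hg⟩ := MulAction.exists_smul_eq G x y
    exact ⟨f g, hg⟩
  have hgenb : Subgroup.closure {g : Gb | ∃ k : ℕ, orderOf g = p ^ k} = ⊤ := by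
    rw [eq_top_iff]
    rintro y -
    obtain ⟨g, rfl⟩ := hf y
    have hg : g ∈ Subgroup.closure {g : G | ∃ k : ℕ, orderOf g = p ^ k} := by rw [hgen]; trivial
    have h1 : f g ∈ (Subgroup.closure {g : G | ∃ k : ℕ, orderOf g = p ^ k}).map f := ⟨g, hg, rfl⟩
    rw [MonoidHom.map_closure] at h1
    refine Subgroup.closure_mono ?_ h1
    rintro _ ⟨x, ⟨k, hk⟩, rfl⟩
    have h2 : orderOf (f x) ∣ p ^ k := hk ▸ orderOf_map_dvd f x
    obtain ⟨j, -, hj⟩ := (Nat.dvd_prime_pow (Fact.out : p.Prime)).1 h2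
    exact ⟨j, hj⟩
  have hpG : p ∣ Nat.card Gb := by
    by_contra hp
    have hbot : Subgroup.closure {g : Gb | ∃ k : ℕ, orderOf g = p ^ k} ≤ ⊥ := by
      rw [Subgroup.closure_le]
      rintro x ⟨k, hk⟩
      have h1 : p ^ k ∣ Nat.card Gb := hk ▸ orderOf_dvd_natCard x
      have h2 : k = 0 := by
        by_contra h0
        exact hp ((dvd_pow_self p h0).trans h1)
      rw [h2, pow_zero, orderOf_eq_one_iff] at hk
      simpa using hk
    rw [hgenb] at hbot
    apply hH
    rw [eq_top_iff]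
    rintro g -
    have h1 : f g = 1 := by
      have : f g ∈ (⊥ : Subgroup Gb) := hbot trivial
      simpa using this
    have h2 : g • (QuotientGroup.mk 1 : G ⧸ H) = QuotientGroup.mk 1 := by
      rw [← hact, h1, one_smul]
    rw [show g • (QuotientGroup.mk 1 : G ⧸ H) = QuotientGroup.mk (g * 1) from rfl, mul_one, eq_comm,
      QuotientGroup.eq] at h2
    simpa using h2
  have hq : ∀ (N : Subgroup Gb) [N.Normal], ∃ (M : Subgroup G) (_ : M.Normal), Nonempty (G ⧸ M ≃* Gb ⧸ N) := by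
    intro N _
    refine ⟨((QuotientGroup.mk' N).comp f).ker, inferInstance, ⟨QuotientGroup.quotientKerEquivOfSurjective _ ?_⟩⟩
    exact (QuotientGroup.mk'_surjective N).comp hf
  obtain ⟨x, ⟨k, hk⟩, hx⟩ := hyp (G := Gb) (Ω := G ⧸ H) htr p hpG hgenb
    (by
      rintro N hN m h1 h2 ⟨e⟩
      obtain ⟨M, hM, ⟨e'⟩⟩ := hq N
      exact hA M m h1 h2 ⟨e'.trans e⟩)
    (by
      rintro N hN m h1 ⟨e⟩
      obtain ⟨M, hM, ⟨e'⟩⟩ := hq N
      exact hS M m h1 ⟨e'.trans e⟩)
  refine le_trans (Nat.mul_le_mul_left _ ?_) hx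
  -- a Sylow subgroup containing `x`
  have hpx : IsPGroup p (Subgroup.zpowers x) := by
    rw [IsPGroup.iff_card]
    exact ⟨k, by rw [Nat.card_zpowers, hk]⟩
  obtain ⟨Q, hQ⟩ := hpx.exists_le_sylow
  obtain ⟨g, hg⟩ := MulAction.exists_smul_eq Gb (P.mapSurjective hf) Q
  have hxQ : x ∈ (Q : Subgroup Gb) := hQ (Subgroup.mem_zpowers x)
  rw [← hg, Sylow.coe_subgroup_smul] at hxQ
  obtain ⟨y, hy, hyx⟩ := hxQ
  rw [Sylow.coe_mapSurjective] at hy
  obtain ⟨z, hz, rfl⟩ := hy
  have hyx' : g * f z * g⁻¹ = x := by simpa [MulAut.smul_def] using hyx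
  have hmap : ∀ w ∈ Fx H (P : Subgroup G), g • w ∈ MulAction.fixedBy (G ⧸ H) x := by
    intro w hw
    rw [MulAction.mem_fixedBy, ← hyx', smul_smul, inv_mul_cancel_right, mul_smul, hact z w, hw z hz]
  refine Nat.card_le_card_of_injective (fun w : Fx H (P : Subgroup G) =>
    (⟨g • w.1, hmap w.1 w.2⟩ : MulAction.fixedBy (G ⧸ H) x)) ?_
  intro a b hab
  have := congrArg Subtype.val hab
  exact Subtype.ext (MulAction.injective g this)

end Cfsg.Agent.H702.NuFpr
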