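import Cfsg.Agent.H706.RealBasic
import Cfsg.Agent.MTwelve.BlockExists
import Cfsg.Agent.H707.Block

/-!
# The sieve: Sylow `p`-subgroup of order `p` and no nontrivial real character in the principal block

* `Exc p S` : the data of the exceptional characters;
* `exists_exc` : `S` simple nonabelian, `|S|_p = p` odd, not `HasReal p S` : `Exc p S` is inhabited.
-/

set_option autoImplicit false

open scoped ComplexConjugate
open Cfsg

namespace Cfsg.Agent.H702.Sieve

open Cfsg.Agent.Characters Cfsg.Agent.MTwelve.BlockData Cfsg.Agent.H702.RealB0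
open Cfsg.Agent.S4490 (cj cj_apply cj_cj cj_one)
open Cfsg.Agent.H707.Block (powAct pow_smul_apply smul_mem_principalBlock pow_val_mul)

universe u

attribute [local instance] powAct

/-- The data of the exceptional characters in the principal `p`-block, when the Sylow `p`-subgroup has order `p`
and the principal block contains no real-valued character other than the principal one. -/
structure Exc (p : ℕ) (S : Type u) [Group S] [Finite S] where
  e : ℕ
  t : ℕ
  P : Subgroup S
  card_P : Nat.card P = p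
  he : (Subgroup.centralizer (P : Set S)).relIndex (Subgroup.normalizer (P : Set S)) = e
  B : PBlock S p e t P
  v : S → ℤ
  het : e * t = p - 1
  odd_e : Odd e
  one_lt_e : 1 < e
  apply_X : ∀ Θ ∈ B.X, ∀ g : S, ¬ p ∣ orderOf g → (Θ : S → ℂ) g = v g
  odd_v : ∀ g : S, ¬ p ∣ orderOf g → IsConj g g⁻¹ → Odd (v g)
  cj_NE : ∀ χ ∈ B.NE, cj χ ∈ B.NE
  ε_cj : ∀ χ ∈ B.NE, B.ε (cj χ) = B.ε χ
  cj_ne : ∀ χ ∈ B.NE, cj χ = χ → χ = triv S
  blk : ∃ M : Ideal AlgInt, IsPModular p M ∧ ∀ χ : IrrCharacter S, χ ∈ principalBlock M S ↔ χ ∈ B.NE ∨ χ ∈ B.X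

section Conj

variable {S : Type u} [Group S] [Finite S]

/-- If `|N(P) : C(P)|` is even, a generator of `P` is conjugate to its inverse. -/
theorem isConj_inv_of_even {p : ℕ} [hp : Fact p.Prime] {P : Subgroup S} (hP : Nat.card P = p)
    (h2 : 2 ∣ (Subgroup.centralizer (P : Set S)).relIndex (Subgroup.normalizer (P : Set S))) {y : S} (hy : y ∈ P) :
    IsConj y y⁻¹ := by
  have hc : IsCyclic P := isCyclic_of_prime_card hP
  let f := P.normalizerMonoidHom
  have h1 : Nat.card f.range = (Subgroup.centralizer (P : Set S)).relIndex (Subgroup.normalizer (P : Set S)) := by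
    rw [Subgroup.relIndex, ← Subgroup.normalizerMonoidHom_ker, Subgroup.index_ker]
  rw [← h1] at h2
  have h2' : Fact (Nat.Prime 2) := ⟨Nat.prime_two⟩
  obtain ⟨⟨a, g, hg⟩, ha⟩ := exists_prime_orderOf_dvd_card' (G := f.range) 2 h2
  have ha2 : a * a = 1 := by
    have h3 := pow_orderOf_eq_one (⟨a, g, hg⟩ : f.range)
    rw [ha, pow_two] at h3
    exact congrArg Subtype.val h3
  have ha1 : a ≠ 1 := by
    rintro rfl
    have h3 : (⟨1, g, hg⟩ : f.range) = 1 := rfl
    rw [h3, orderOf_one] at ha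
    omega
  have hcomm : ∀ x y : P, x * y = y * x := by
    let _ : CommGroup P := hc.commGroup
    exact fun x y => mul_comm x y
  have key : ∀ x : P, x * a x = 1 := by
    intro x
    by_contra hx
    apply ha1
    have hfix : a (x * a x) = x * a x := by
      rw [map_mul, ← MulAut.mul_apply, ha2, MulAut.one_apply, hcomm]
    have hgen : ∀ z : P, z ∈ Subgroup.zpowers (x * a x) := by
      intro z
      have h4 : Subgroup.zpowers (x * a x) = ⊤ := by
        have h5 := (Fact.mk (hP ▸ hp.out) : Fact (Nat.card P).Prime)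
        rcases Subgroup.eq_bot_or_eq_top_of_prime_card (Subgroup.zpowers (x * a x)) with h | h
        · exact absurd (Subgroup.zpowers_eq_bot.1 h) hx
        · exact h
      rw [h4]
      trivial
    apply MulEquiv.ext
    intro z
    obtain ⟨k, rfl⟩ := Subgroup.mem_zpowers_iff.1 (hgen z)
    rw [map_zpow, hfix, MulAut.one_apply]
  rw [isConj_iff]
  refine ⟨g, ?_⟩
  have h5 := key ⟨y, hy⟩
  have h6 : ((a ⟨y, hy⟩ : P) : S) = (g : S) * y * (g : S)⁻¹ := by
    rw [← hg]
    rfl
  have h7 := congrArg Subtype.val h5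
  rw [Subgroup.coe_mul, h6] at h7
  exact (inv_eq_of_mul_eq_one_right h7).symm

end Conj

section Main

variable {S : Type u} [Group S] [Finite S]

theorem not_const {p e t : ℕ} (hp : 1 < p) {P : Subgroup S} (hP : Nat.card P = p) (B : PBlock S p e t P)
    (het : e * t = p - 1) (he : 1 < e) (ht : 2 ≤ t) {Θ : IrrCharacter S} (hΘ : Θ ∈ B.X) {ε : ℤ} (hε : ε = 1 ∨ ε = -1) :
    ¬ ∀ x ∈ P, x ≠ 1 → (Θ : S → ℂ) x = ε := by
  intro h
  have h1 : (p : ℤ) ∣ deg Θ - ε :=
    dvd_sub_of_const (Core.isIrr_isCharacter Θ.2) P hP (by omega) (by rw [apply_one]; norm_cast) h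
  have h2 := B.dvd_deg_X_sub hP hp het hΘ
  have h3 : (p : ℤ) ∣ e * B.d - ε := by
    have := dvd_sub h1 h2
    have h4 : (deg Θ : ℤ) - ε - (deg Θ - e * B.d) = e * B.d - ε := by ring
    rwa [h4] at this
  have h5 : 2 * e ≤ p - 1 := by
    rw [← het]
    nlinarith
  have h6 : |(e : ℤ) * B.d - ε| < p := by
    rcases B.d_eq with hd | hd <;> rcases hε with hε | hε <;> rw [hd, hε, abs_lt] <;> constructor <;> push_cast <;> omega
  have h7 := Int.eq_zero_of_abs_lt_dvd h3 h6
  rcases B.d_eq with hd | hd <;> rcases hε with hε | hε <;> rw [hd, hε] at h7 <;> omega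

theorem exists_exc_of_block {p : ℕ} [hp : Fact p.Prime] (hp2 : p ≠ 2) {M : Ideal AlgInt} (hM : IsPModular p M)
    (P : Sylow p S) (hP : Nat.card (P : Subgroup S) = p)
    (h1e : (Subgroup.centralizer ((P : Subgroup S) : Set S)).relIndex
      (Subgroup.normalizer ((P : Subgroup S) : Set S)) ≠ 1)
    (hno : ∀ χ : IrrCharacter S, χ ∈ principalBlock M S → (∀ g : S, ((χ : S → ℂ) g).im = 0) →
      (χ : S → ℂ) = fun _ => 1) :
    ∃ E : Exc p S, E.P = (P : Subgroup S) ∧ ∀ χ : IrrCharacter S, χ ∈ principalBlock M S ↔ χ ∈ E.B.NE ∨ χ ∈ E.B.X := by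
  classical
  have hp1 := hp.out.one_lt
  have hnoT : ¬ H706.RealB.RealB0 M S := by
    rintro ⟨χ, h1, h2, h3⟩
    exact h2 (hno χ h1 h3)
  obtain ⟨y, hyP, hy1⟩ : ∃ y ∈ (P : Subgroup S), y ≠ 1 := by
    have : Nontrivial (P : Subgroup S) := by
      rw [← Finite.one_lt_card_iff_nontrivial, hP]
      exact hp1
    obtain ⟨y, hy⟩ := exists_ne (1 : (P : Subgroup S))
    exact ⟨y, y.2, fun h => hy (Subtype.ext h)⟩
  have hord : ∀ x ∈ (P : Subgroup S), x ≠ 1 → orderOf x = p := by
    intro x hx hx1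
    have h1 : orderOf x ∣ p := by
      rw [← hP]
      exact Subgroup.orderOf_dvd_natCard _ hx
    rcases (Nat.dvd_prime hp.out).1 h1 with h | h
    · exact absurd (orderOf_eq_one_iff.1 h) hx1
    · exact h
  set e := (Subgroup.centralizer ((P : Subgroup S) : Set S)).relIndex
      (Subgroup.normalizer ((P : Subgroup S) : Set S)) with he
  have hodd : Odd e := by
    rw [← Nat.not_even_iff_odd, even_iff_two_dvd]
    intro h2
    exact hnoT (H706.RealB.of_isConj_inv hM (by rw [hord y hyP hy1]) (isConj_inv_of_even hP h2 hyP))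
  have hdvd : e ∣ p - 1 := by
    have hc : IsCyclic (P : Subgroup S) := isCyclic_of_prime_card hP
    have h2 := hc.card_mulAut
    rw [hP, Nat.totient_prime hp.out] at h2
    rw [← h2]
    exact SmallSimple.BurnsideNC.relIndex_dvd_card_mulAut _
  obtain ⟨t, ht⟩ := hdvd
  have ht2 : 2 ≤ t := by
    have h1 : Even (e * t) := by
      rw [← ht]
      have := hp.out.odd_of_ne_two hp2
      obtain ⟨k, hk⟩ := this
      exact ⟨k, by omega⟩
    have h2 : Even t := by
      rcases Nat.even_mul.1 h1 with h | h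
      · exact absurd h (Nat.not_even_iff_odd.2 hodd)
      · exact h
    obtain ⟨k, hk⟩ := h2
    rcases Nat.eq_zero_or_pos k with h | h
    · subst h
      simp at hk
      subst hk
      simp at ht
      omega
    · omega
  have h1lt : 1 < e := by
    obtain ⟨k, hk⟩ := hodd
    omega
  obtain ⟨NE, X, ε, d, Sf, hmem, g1, g2, g3, g4, g5, g6, g7, g8, g9, g10⟩ :=
    SmallSimple.TheoremB.theoremB p hp2 M hM P hP e t he.symm ht.symm
  obtain ⟨B, hNE, hX, hε, hdd⟩ := MTwelve.BlockExists.exists_of_data hp.out hP ht.symm g1 g2 g3 g4 g5 g6 g7 g8 g9 g10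
  have hmemB : ∀ χ : IrrCharacter S, χ ∈ principalBlock M S ↔ χ ∈ B.NE ∨ χ ∈ B.X := by
    rw [hNE, hX]
    exact hmem
  have hreg1 : ¬ p ∣ orderOf (1 : S) := by rw [orderOf_one, Nat.dvd_one]; omega
  have hNEval : ∀ χ ∈ B.NE, ∀ x ∈ (P : Subgroup S), x ≠ 1 → (χ : S → ℂ) x = B.ε χ := by
    intro χ hχ x hx hx1
    have h1 := B.apply_NE χ hχ x hx hx1 1 (Subgroup.one_mem _) hreg1
    rwa [mul_one] at h1
  have hcjNE : ∀ χ ∈ B.NE, cj χ ∈ B.NE := by
    intro χ hχ
    rcases (hmemB (cj χ)).1 (H706.RealB.cj_mem ((hmemB χ).2 (Or.inl hχ))) with h | h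
    · exact h
    · exfalso
      refine not_const hp1 hP B ht.symm h1lt ht2 h (B.ε_eq χ hχ) fun x hx hx1 => ?_
      rw [cj_apply, hNEval χ hχ x hx hx1, map_intCast]
  have hXst : ∀ u : (ZMod (Nat.card S))ˣ, ∀ Θ ∈ B.X, u • Θ ∈ B.X := by
    intro u Θ hΘ
    rcases (hmemB (u • Θ)).1 (smul_mem_principalBlock ((hmemB Θ).2 (Or.inr hΘ)) u) with h | h
    · exfalso
      refine not_const hp1 hP B ht.symm h1lt ht2 hΘ (B.ε_eq _ h) fun x hx hx1 => ?_
      have h3 : x ^ ((u⁻¹ : (ZMod (Nat.card S))ˣ) : ZMod (Nat.card S)).val ≠ 1 := by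
        intro h4
        apply hx1
        have h5 := pow_val_mul x u⁻¹ u
        rw [h4, one_pow, inv_mul_cancel, H707.Block.pow_val_one] at h5
        exact h5
      have h6 := hNEval _ h _ (Subgroup.pow_mem _ hx _) h3
      rw [pow_smul_apply, ← pow_val_mul, inv_mul_cancel, H707.Block.pow_val_one] at h6
      exact h6
    · exact h
  have hval : ∀ Θ ∈ B.X, ∀ g : S, ¬ p ∣ orderOf g → ∃ k : ℤ, (Θ : S → ℂ) g = k := by
    intro Θ hΘ g hg
    refine GaloisBasic.exists_int_of_isIntegral (GaloisBasic.isIntegral_apply (Core.isIrr_isCharacter Θ.2) g) ?_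
    rw [GaloisBasic.exists_rat_iff (Core.isIrr_isCharacter Θ.2) g]
    intro m hm
    have h2 := B.apply_X_eq (hXst (ZMod.unitOfCoprime m hm) Θ hΘ) hΘ hg
    rw [pow_smul_apply, ZMod.coe_unitOfCoprime, ZMod.val_natCast, pow_mod_natCard] at h2
    exact h2
  have hXne : B.X.Nonempty := by
    rw [← Finset.card_pos, B.card_X]
    omega
  obtain ⟨Θ₀, hΘ₀⟩ := hXne
  let v : S → ℤ := fun g => if h : ¬ p ∣ orderOf g then (hval Θ₀ hΘ₀ g h).choose else 0
  have hv : ∀ Θ ∈ B.X, ∀ g : S, ¬ p ∣ orderOf g → (Θ : S → ℂ) g = v g := by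
    intro Θ hΘ g hg
    rw [B.apply_X_eq hΘ hΘ₀ hg]
    simp only [v, dif_pos hg]
    exact (hval Θ₀ hΘ₀ g hg).choose_spec
  have hεcj : ∀ χ ∈ B.NE, B.ε (cj χ) = B.ε χ := by
    intro χ hχ
    have h1 := hNEval _ (hcjNE χ hχ) y hyP hy1
    rw [cj_apply, hNEval χ hχ y hyP hy1, map_intCast] at h1
    exact_mod_cast h1.symm
  have hcjne : ∀ χ ∈ B.NE, cj χ = χ → χ = triv S := by
    intro χ hχ h
    apply Subtype.ext
    have h1 := hno χ ((hmemB χ).2 (Or.inl hχ)) (H706.RealB.im_eq_zero_of_cj h)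
    rw [h1]
    rfl
  refine ⟨{ e := e, t := t, P := P, card_P := hP, he := rfl, B := B, v := v, het := ht.symm, odd_e := hodd,
            one_lt_e := h1lt, apply_X := hv, odd_v := ?_, cj_NE := hcjNE, ε_cj := hεcj, cj_ne := hcjne,
            blk := ⟨M, hM, hmemB⟩ },
          rfl, hmemB⟩
  intro g hg hreal
  obtain ⟨M₂, hM₂⟩ := Blocks.ExistsModular.exists_isPModular Nat.prime_two
  have hprime := Blocks.Local.isPrime_of_isPModular hM₂
  let σ : B.NE → B.NE := fun χ => ⟨cj χ.1, hcjNE χ.1 χ.2⟩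
  let F : B.NE → ℂ := fun χ => (B.ε χ.1 : ℂ) * ((χ.1 : IrrCharacter S) : S → ℂ) g
  let c₀ : B.NE := ⟨triv S, B.triv_mem⟩
  have hgr : ∀ χ : IrrCharacter S, conj ((χ : S → ℂ) g) = (χ : S → ℂ) g := by
    intro χ
    rw [← Blocks.Orthogonality.irr_apply_inv χ.2]
    obtain ⟨c, hc⟩ := isConj_iff.1 hreal
    rw [← hc]
    exact Blocks.Basic.irr_isClassFunction χ.2 g c
  have h2 := S4490.sum_sub_of_involution hM₂ σ (fun χ => Subtype.ext (cj_cj χ.1)) F ?_ ?_ c₀ ?_ ?_
  · have h3 : F c₀ = 1 := by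
      simp only [F, c₀]
      rw [B.ε_triv, triv_apply]
      norm_num
    have h4 : ∑ c, F c = B.d * (v g : ℂ) := by
      rw [← hv Θ₀ hΘ₀ g hg, ← B.rel Θ₀ hΘ₀ g hg]
      exact Finset.sum_coe_sort B.NE (fun χ : IrrCharacter S => (B.ε χ : ℂ) * (χ : S → ℂ) g)
    rw [h3, h4] at h2
    have h5 : (B.d : ℂ) * (v g : ℂ) - 1 = ((B.d * v g - 1 : ℤ) : ℂ) := by push_cast; ring
    rw [h5, Blocks.Local.memLocalIdeal_intCast_iff hM₂] at h2
    rcases B.d_eq with hd | hd <;> rw [hd] at h2 <;> rw [Int.odd_iff] <;> push_cast at h2 <;> omega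
  · intro χ
    have h4 : IsIntegral ℤ (F χ) := by
      simp only [F]
      refine IsIntegral.mul ?_ (GaloisBasic.isIntegral_apply (Core.isIrr_isCharacter χ.1.2) g)
      exact isIntegral_algebraMap
    exact Blocks.Local.memLocalRing_of_isIntegral h4
  · intro χ
    have h4 : F (σ χ) = F χ := by
      simp only [F, σ]
      rw [hεcj χ.1 χ.2, cj_apply, hgr]
    rw [h4, sub_self]
    exact Blocks.Local.memLocalIdeal_zero
  · apply Subtype.ext
    apply Subtype.ext
    funext x
    simp [σ, c₀, cj_apply, triv]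
  · intro χ hχ hne
    exfalso
    exact hne (Subtype.ext (hcjne χ.1 χ.2 (congrArg Subtype.val hχ)))

/-- **The sieve**: a nonabelian simple group with a Sylow `p`-subgroup of order `p` and without nontrivial real
character in the principal block. -/
theorem exists_exc {p : ℕ} [hp : Fact p.Prime] (hp2 : p ≠ 2) [IsSimpleGroup S] (hna : ¬ IsMulCommutative S)
    (hd : p ∣ Nat.card S) (hd2 : ¬ p ^ 2 ∣ Nat.card S) (h : ¬ HasReal p S) : Nonempty (Exc p S) := by
  unfold HasReal at h
  push Not at h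
  obtain ⟨M, hM, h⟩ := h
  obtain ⟨P⟩ : Nonempty (Sylow p S) := inferInstance
  have hP : Nat.card (P : Subgroup S) = p := by
    have h1 := P.card_eq_multiplicity
    have h2 : (Nat.card S).factorization p = 1 := by
      have h3 : 1 ≤ (Nat.card S).factorization p := by
        rw [← Nat.Prime.pow_dvd_iff_le_factorization hp.out Nat.card_pos.ne', pow_one]
        exact hd
      have h4 : ¬ 2 ≤ (Nat.card S).factorization p := by
        rw [← Nat.Prime.pow_dvd_iff_le_factorization hp.out Nat.card_pos.ne']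
        exact hd2
      omega
    rw [h1, h2, pow_one]
  have hne : Nat.card S ≠ p := by
    intro hc
    have := isCyclic_of_prime_card hc
    apply hna
    let _ : CommGroup S := IsCyclic.commGroup
    exact ⟨⟨fun a b => mul_comm a b⟩⟩
  obtain ⟨E, -⟩ := exists_exc_of_block hp2 hM P hP (SmallSimple.BurnsideNC.relIndex_ne_one hd hne P) (by
    intro χ h1 h2
    by_contra h3
    obtain ⟨g, hg⟩ := h χ h1 h3
    exact hg (h2 g))
  exact ⟨E⟩

end Main

end Cfsg.Agent.H702.Sieve
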