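import Mathlib
import Cfsg.Agent.H702.ClFamC
import Cfsg.Agent.OrdDiv.Main

/-!
# Sporadic groups, alternating groups, and the small groups of Lie type (helper702)
-/

set_option autoImplicit false

namespace Cfsg.Agent.H702.TF

open Cfsg.Agent

theorem Key.lt_B {N M B : ℕ} (K : Key N 2 M) (hN : N ≠ 0) (hB : ¬ 2 ^ (B + 1) ∣ N) : M < B + 1 := by
  by_contra h
  apply hB
  refine (pow_dvd_pow 2 (not_lt.1 h)).trans ((Nat.prime_two.pow_dvd_iff_le_factorization hN).2 K.le)

theorem Key.kill1 {N M B r v : ℕ} (K : Key N 2 M) (hN : N ≠ 0) (hB : ¬ 2 ^ (B + 1) ∣ N) (hr : r.Prime) (hr2 : r ≠ 2)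
    (hv : 0 < v) (hd : r ^ v ∣ N)
    (hc : ∀ M < B + 1, 0 < M → 2 ∣ M → ¬ (r ∣ M ∨ r ^ v ∣ 2 ^ M - 1)) : False :=
  hc M (K.lt_B hN hB) K.pos K.two (K.pow hN hr hr2 hv hd)

theorem Key.kill2 {N M B r v s w : ℕ} (K : Key N 2 M) (hN : N ≠ 0) (hB : ¬ 2 ^ (B + 1) ∣ N) (hr : r.Prime)
    (hr2 : r ≠ 2) (hv : 0 < v) (hd : r ^ v ∣ N) (hs : s.Prime) (hs2 : s ≠ 2) (hw : 0 < w) (hd' : s ^ w ∣ N)
    (hc : ∀ M < B + 1, 0 < M → 2 ∣ M → (r ∣ M ∨ r ^ v ∣ 2 ^ M - 1) → ¬ (s ∣ M ∨ s ^ w ∣ 2 ^ M - 1)) : False :=
  hc M (K.lt_B hN hB) K.pos K.two (K.pow hN hr hr2 hv hd) (K.pow hN hs hs2 hw hd')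

theorem not_spor {M : ℕ} {x : OrdDiv.Grp × ℕ} (hx : x ∈ OrdDiv.spor) (K : Key x.2 2 M) : False := by
  simp only [OrdDiv.spor, List.mem_cons, List.not_mem_nil, or_false] at hx
  rcases hx with rfl | rfl | rfl | rfl | rfl | rfl | rfl | rfl | rfl | rfl | rfl | rfl | rfl | rfl | rfl | rfl | rfl |
    rfl | rfl | rfl | rfl | rfl | rfl | rfl | rfl | rfl | rfl
  · exact K.kill1 (B := 11) (r := 13) (v := 1) (by norm_num) (by norm_num) (by norm_num) (by norm_num)
      (by norm_num) (by norm_num) (by decide)
  · exact K.kill1 (B := 4) (r := 11) (v := 1) (by norm_num) (by norm_num) (by norm_num) (by norm_num)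
      (by norm_num) (by norm_num) (by decide)
  · exact K.kill1 (B := 6) (r := 11) (v := 1) (by norm_num) (by norm_num) (by norm_num) (by norm_num)
      (by norm_num) (by norm_num) (by decide)
  · exact K.kill1 (B := 7) (r := 11) (v := 1) (by norm_num) (by norm_num) (by norm_num) (by norm_num)
      (by norm_num) (by norm_num) (by decide)
  · exact K.kill1 (B := 7) (r := 11) (v := 1) (by norm_num) (by norm_num) (by norm_num) (by norm_num)
      (by norm_num) (by norm_num) (by decide)
  · exact K.kill1 (B := 10) (r := 23) (v := 1) (by norm_num) (by norm_num) (by norm_num) (by norm_num)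
      (by norm_num) (by norm_num) (by decide)
  · exact K.kill1 (B := 3) (r := 5) (v := 1) (by norm_num) (by norm_num) (by norm_num) (by norm_num)
      (by norm_num) (by norm_num) (by decide)
  · exact K.kill1 (B := 7) (r := 5) (v := 2) (by norm_num) (by norm_num) (by norm_num) (by norm_num)
      (by norm_num) (by norm_num) (by decide)
  · exact K.kill1 (B := 7) (r := 17) (v := 1) (by norm_num) (by norm_num) (by norm_num) (by norm_num)
      (by norm_num) (by norm_num) (by decide)
  · exact K.kill1 (B := 21) (r := 23) (v := 1) (by norm_num) (by norm_num) (by norm_num) (by norm_num)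
      (by norm_num) (by norm_num) (by decide)
  · exact K.kill1 (B := 21) (r := 23) (v := 1) (by norm_num) (by norm_num) (by norm_num) (by norm_num)
      (by norm_num) (by norm_num) (by decide)
  · exact K.kill1 (B := 18) (r := 23) (v := 1) (by norm_num) (by norm_num) (by norm_num) (by norm_num)
      (by norm_num) (by norm_num) (by decide)
  · exact K.kill1 (B := 10) (r := 23) (v := 1) (by norm_num) (by norm_num) (by norm_num) (by norm_num)
      (by norm_num) (by norm_num) (by decide)
  · exact K.kill1 (B := 7) (r := 11) (v := 1) (by norm_num) (by norm_num) (by norm_num) (by norm_num)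
      (by norm_num) (by norm_num) (by decide)
  · exact K.kill1 (B := 9) (r := 11) (v := 1) (by norm_num) (by norm_num) (by norm_num) (by norm_num)
      (by norm_num) (by norm_num) (by decide)
  · exact K.kill2 (B := 13) (r := 7) (v := 1) (s := 11) (w := 1) (by norm_num) (by norm_num) (by norm_num)
      (by norm_num) (by norm_num) (by norm_num) (by norm_num) (by norm_num) (by norm_num) (by norm_num) (by decide)
  · exact K.kill1 (B := 10) (r := 7) (v := 2) (by norm_num) (by norm_num) (by norm_num) (by norm_num)
      (by norm_num) (by norm_num) (by decide)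
  · exact K.kill1 (B := 14) (r := 29) (v := 1) (by norm_num) (by norm_num) (by norm_num) (by norm_num)
      (by norm_num) (by norm_num) (by decide)
  · exact K.kill1 (B := 9) (r := 11) (v := 1) (by norm_num) (by norm_num) (by norm_num) (by norm_num)
      (by norm_num) (by norm_num) (by decide)
  · exact K.kill1 (B := 8) (r := 11) (v := 1) (by norm_num) (by norm_num) (by norm_num) (by norm_num)
      (by norm_num) (by norm_num) (by decide)
  · exact K.kill2 (B := 17) (r := 7) (v := 1) (s := 11) (w := 1) (by norm_num) (by norm_num) (by norm_num)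
      (by norm_num) (by norm_num) (by norm_num) (by norm_num) (by norm_num) (by norm_num) (by norm_num) (by decide)
  · exact K.kill1 (B := 18) (r := 23) (v := 1) (by norm_num) (by norm_num) (by norm_num) (by norm_num)
      (by norm_num) (by norm_num) (by decide)
  · exact K.kill1 (B := 21) (r := 23) (v := 1) (by norm_num) (by norm_num) (by norm_num) (by norm_num)
      (by norm_num) (by norm_num) (by decide)
  · exact K.kill1 (B := 14) (r := 19) (v := 1) (by norm_num) (by norm_num) (by norm_num) (by norm_num)
      (by norm_num) (by norm_num) (by decide)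
  · exact K.kill1 (B := 15) (r := 19) (v := 1) (by norm_num) (by norm_num) (by norm_num) (by norm_num)
      (by norm_num) (by norm_num) (by decide)
  · exact K.kill1 (B := 41) (r := 47) (v := 1) (by norm_num) (by norm_num) (by norm_num) (by norm_num)
      (by norm_num) (by norm_num) (by decide)
  · exact K.kill1 (B := 46) (r := 59) (v := 1) (by norm_num) (by norm_num) (by norm_num) (by norm_num)
      (by norm_num) (by norm_num) (by decide)

end Cfsg.Agent.H702.TF
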